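import Cfsg.Agent.GTwoRecog.Companion

/-!
Without companions the centralisers of the root elements lie in the centraliser of the involution.
-/

set_option autoImplicit false
set_option maxHeartbeats 800000

namespace Cfsg.Lib.GTwoRecog

open Subgroup
open S24 (neg1 inQ cu cl sg cw)
open Cfsg.Lib.GTwoThree (GG)

variable {G : Type*} [Group G]

namespace Loc

open HLoc

variable (L : Loc G)

/-- The two copies exchanged. -/
def swap : Loc G where
  H := L.H
  M := L.M
  O := L.O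
  z := L.z
  f1 := L.f2
  f2 := L.f1
  inj1 := L.inj2
  inj2 := L.inj1
  z1 := L.z2
  z2 := L.z1
  mem1 := L.mem2
  mem2 := L.mem1
  nor1 := L.nor2
  nor2 := L.nor1
  meet a b h := (L.meet b a h.symm).imp (fun e => ⟨e.2, e.1⟩) fun e => ⟨e.2, e.1⟩
  comm a b := (L.comm b a).symm
  cent := L.cent
  split := by
    obtain ⟨s, hs, hs0, hall⟩ := L.split
    refine ⟨s, hs, fun a b e => hs0 b a (e.trans (L.comm b a).symm.eq), fun h hh => ?_⟩
    obtain ⟨a, b, e⟩ := hall h hh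
    exact ⟨b, a, by rwa [← (L.comm a b).eq]⟩
  hcard := L.hcard
  OM := L.OM
  ocard := L.ocard
  osq := L.osq
  ocomm := L.ocomm
  onor := L.onor
  oz := L.oz
  mcard := L.mcard
  oself := L.oself

theorem swap_in0 {g : G} : L.swap.In0 g ↔ L.In0 g :=
  ⟨fun ⟨a, b, e⟩ => ⟨b, a, e.trans (L.comm b a).symm.eq⟩, fun ⟨a, b, e⟩ => ⟨b, a, e.trans (L.comm a b).eq⟩⟩

theorem swap_Q {g : G} : g ∈ L.swap.Q ↔ g ∈ L.Q :=
  ⟨fun ⟨a, b, ha, hb, e⟩ => ⟨b, a, hb, ha, e.trans (L.comm b a).symm.eq⟩,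
    fun ⟨a, b, ha, hb, e⟩ => ⟨b, a, hb, ha, e.trans (L.comm a b).eq⟩⟩

variable {L} {m t P : G}

theorem Letters.swap (h : L.Letters m t P) : L.swap.Letters m t (t * P * t) := by
  refine ⟨⟨⟨h.mM, h.ne, h.tt, h.tH, fun e => h.t0 ((swap_in0 L).1 e), h.te, (swap_Q L).2 h.tQ, h.tO⟩,
    h.t2, h.t1, h.e0.trans (L.comm cw cw).eq⟩, h.base.swap, fun hH => h.hP ?_⟩
  have hm : t * (t * P * t) * t ∈ L.H := L.H.mul_mem (L.H.mul_mem h.tH hH) h.tH
  simpa [mul_assoc, ← mul_assoc t t, h.tt] using hm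

variable [Finite G]

theorem Ct_eq_one (h : L.Letters m t P) (hno : IsEmpty (GG ≃* G)) {c : G} (hc : c ∈ Ct L.toHLoc t) : c = 1 := by
  by_contra h1
  refine not_nonempty_iff.2 hno (engine h.toH (x := P⁻¹ * c * P) ?_ fun e => h1 ?_)
  · rw [mem_Xs, show P * (P⁻¹ * c * P) * P⁻¹ = c by group]; exact hc
  · calc c = P * (P⁻¹ * c * P) * P⁻¹ := by group
      _ = 1 := by rw [e]; group

theorem OA_eq (h : L.Letters m t P) (hno : IsEmpty (GG ≃* G)) {o : G} (ho : o ∈ L.OA) : o ∈ zpowers L.lA := by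
  obtain ⟨c, hc, d, hd, a, ha, e⟩ := OA_decomp h.toStd.toH ho
  rw [e, Ct_eq_one h hno hc, Ct_eq_one h hno hd]
  simpa using ha

theorem CA_le (h : L.Letters m t P) (hno : IsEmpty (GG ≃* G)) : L.CA ≤ L.H := by
  intro g hg
  have ha := OA_eq h hno (z_comm_mem h.toStd.toH hg)
  set a := L.z * g * L.z⁻¹ * g⁻¹ with hadef
  have haz : Commute a L.z := (centralA L.z_CA ha).symm
  have e1 : L.z * g * L.z = a * g := by rw [hadef, L.z_inv]; group
  have e2 : g = a * a * g := by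
    calc g = L.z * (L.z * g * L.z) * L.z := by simp [mul_assoc, ← mul_assoc L.z L.z, L.zz]
      _ = L.z * a * (g * L.z) := by rw [e1]; group
      _ = a * (L.z * g * L.z) := by rw [haz.symm.eq]; group
      _ = a * a * g := by rw [e1]; group
  have haa : a * a = 1 := mul_right_cancel (e2.symm.trans (one_mul g).symm)
  have ha1 : a = 1 := by
    have h3 : a * a * a = 1 := by
      rcases mem_zp.1 ha with e | e | e <;> rw [e]
      · simp
      · exact A3
      · rw [← mul_inv_rev, ← mul_inv_rev, ← mul_assoc, A3, inv_one]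
    rwa [haa, one_mul] at h3
  rw [ha1, one_mul] at e1
  refine L.commz.2 ?_
  calc g * L.z = L.z * (L.z * g * L.z) := by simp [mul_assoc, ← mul_assoc L.z L.z, L.zz]
    _ = L.z * g := by rw [e1]

theorem CC_le (h : L.Letters m t P) (hno : IsEmpty (GG ≃* G)) : centralizer ({L.lC} : Set G) ≤ L.H :=
  CA_le h.swap hno

end Loc

end Cfsg.Lib.GTwoRecog
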