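import Cfsg.Agent.GTwoRecog.Companionless

/-!
Without companions every element of order three of the centraliser of the involution has its centraliser inside it.
-/

set_option autoImplicit false
set_option maxHeartbeats 800000

namespace Cfsg.Lib.GTwoRecog

open Subgroup
open S24 (neg1 inQ cu cl sg cw)
open Cfsg.Lib.GTwoThree (GG)

namespace S24

/-- The cyclic group of order three through the root element. -/
def C3 (p : S24) : Prop := p = 1 ∨ p = cu ∨ p = cu⁻¹

instance : DecidablePred C3 := fun _ => inferInstanceAs (Decidable (_ ∨ _ ∨ _))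

theorem c3_facts :
    (∀ a b : S24, C3 a → C3 b → C3 (a * b) ∧ a * b = b * a) ∧ (∀ a : S24, C3 a → C3 a⁻¹ ∧ a * a * a = 1) ∧
    (∀ a : S24, C3 a → ¬ C3 (neg1 * a)) ∧
    (∀ a p : S24, C3 p → p ≠ 1 → a * p * a⁻¹ = p → C3 a ∨ C3 (neg1 * a)) ∧
    (∀ a p : S24, C3 p → a * p * a⁻¹ ≠ neg1 * p) ∧
    (∀ p : S24, p * p * p = 1 → ∃ g : S24, C3 (g * p * g⁻¹)) := by
  refine ⟨?_, ?_, ?_, ?_, ?_, ?_⟩ <;> decide +kernel

end S24

open S24 (C3)

variable {G : Type*} [Group G]

/-- The odd core of a subgroup. -/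
noncomputable def core2 (K : Subgroup G) : Subgroup G := (Cfsg.pPrimeCore 2 K).map K.subtype

theorem core2_le (K : Subgroup G) : core2 K ≤ K := Subgroup.map_subtype_le _

theorem core2_odd [Finite G] (K : Subgroup G) : Odd (Nat.card (core2 K)) := by
  rw [core2, Subgroup.card_map_of_injective K.subtype_injective]
  exact Cfsg.Lib.ZStarApps.odd_card_pPrimeCore

theorem core2_norm {K : Subgroup G} {g o : G} (hg : g ∈ K) (ho : o ∈ core2 K) : g * o * g⁻¹ ∈ core2 K := by
  obtain ⟨x, hx, rfl⟩ := ho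
  exact ⟨⟨g, hg⟩ * x * ⟨g, hg⟩⁻¹, (inferInstance : (Cfsg.pPrimeCore 2 K).Normal).conj_mem x hx _, rfl⟩

theorem core2_invol [Finite G] {K : Subgroup G} {u : G} (hu : u * u = 1) (hK : ∀ g ∈ K, u * g * u ∈ K) {o : G}
    (ho : o ∈ core2 K) : u * o * u ∈ core2 K := by
  obtain ⟨⟨g, hg⟩, hgO, rfl⟩ := ho
  let φ : K ≃* K :=
    { toFun := fun g => ⟨u * g * u, hK g g.2⟩
      invFun := fun g => ⟨u * g * u, hK g g.2⟩
      left_inv := fun g => Subtype.ext (by simp [mul_assoc, ← mul_assoc u u, hu])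
      right_inv := fun g => Subtype.ext (by simp [mul_assoc, ← mul_assoc u u, hu])
      map_mul' := fun a b => Subtype.ext (by simp [mul_assoc, ← mul_assoc u u, hu]) }
  let N : Subgroup K := (Cfsg.pPrimeCore 2 K).map φ.toMonoidHom
  haveI : N.Normal := (inferInstance : (Cfsg.pPrimeCore 2 K).Normal).map _ φ.surjective
  have hN : (Nat.card N).Coprime 2 := by
    rw [Subgroup.card_map_of_injective φ.injective]
    exact Cfsg.Lib.Components.coprime_card_pPrimeCore 2
  exact ⟨_, Cfsg.Lib.Components.le_pPrimeCore hN ⟨_, hgO, rfl⟩, rfl⟩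

/-- An involution without fixed points on a subgroup of odd order inverts it. -/
theorem fpf_inverts [Finite G] {O : Subgroup G} (hodd : Odd (Nat.card O)) {i o : G} (hi : i * i = 1)
    (hio : i * o * i ∈ O) (ho : o ∈ O) {S : Set G} (hS : ∀ c ∈ O, Commute c i → c ∈ S) :
    ∃ c v, c ∈ S ∧ v ∈ O ∧ i * v * i = v⁻¹ ∧ o = c * v := by
  obtain ⟨c, v, hc, hv, hci, hiv, e⟩ := odd_split hodd hi hio ho
  exact ⟨c, v, hS c hc hci, hv, hiv, e⟩

namespace Loc

open HLoc

variable (L : Loc G)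

/-- The elementary group of order nine. -/
def Rd : Subgroup G where
  carrier := {g | ∃ a b, C3 a ∧ C3 b ∧ g = L.f1 a * L.f2 b}
  mul_mem' := by
    rintro _ _ ⟨a, b, ha, hb, rfl⟩ ⟨c, d, hc, hd, rfl⟩
    exact ⟨_, _, (S24.c3_facts.1 a c ha hc).1, (S24.c3_facts.1 b d hb hd).1, L.pair_mul a b c d⟩
  one_mem' := ⟨1, 1, Or.inl rfl, Or.inl rfl, by simp⟩
  inv_mem' := by
    rintro _ ⟨a, b, ha, hb, rfl⟩
    exact ⟨_, _, (S24.c3_facts.2.1 a ha).1, (S24.c3_facts.2.1 b hb).1, L.pair_inv a b⟩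

theorem Rd_le : L.Rd ≤ L.H := by
  rintro _ ⟨a, b, -, -, rfl⟩
  exact L.mem0 ⟨a, b, rfl⟩

theorem Rd_cube {g : G} (hg : g ∈ L.Rd) : g * g * g = 1 := by
  obtain ⟨a, b, ha, hb, rfl⟩ := hg
  rw [L.pair_mul, L.pair_mul, (S24.c3_facts.2.1 a ha).2, (S24.c3_facts.2.1 b hb).2, map_one, map_one, mul_one]

theorem Rd_comm {g k : G} (hg : g ∈ L.Rd) (hk : k ∈ L.Rd) : Commute g k := by
  obtain ⟨a, b, ha, hb, rfl⟩ := hg
  obtain ⟨c, d, hc, hd, rfl⟩ := hk
  show _ * _ = _
  rw [L.pair_mul, L.pair_mul, (S24.c3_facts.1 a c ha hc).2, (S24.c3_facts.1 b d hb hd).2]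

variable {L} [Finite G] {m t P : G}

theorem cent_diag (h : L.Std m t) {p q : S24} (hp : C3 p) (hp1 : p ≠ 1) (hq : C3 q) (hq1 : q ≠ 1) {g : G}
    (hg : g ∈ L.H) (hc : Commute g (L.f1 p * L.f2 q)) : g ∈ L.Rd ∨ L.z * g ∈ L.Rd := by
  have e : g * (L.f1 p * L.f2 q) * g⁻¹ = L.f1 p * L.f2 q := by rw [hc.eq, mul_inv_cancel_right]
  obtain ⟨a, b, rfl⟩ : L.In0 g := by
    by_contra h0
    obtain ⟨p', hp'⟩ := L.nor1 g hg p
    obtain ⟨q', hq'⟩ := L.nor2 g hg q
    have e2 : L.f1 p' * L.f2 q' = L.f1 p * L.f2 q := by rw [← hp', ← hq', ← e]; group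
    have hp3 : p' * p' * p' = 1 := L.inj1 (by
      rw [map_mul, map_mul, map_one, ← hp']
      calc g * L.f1 p * g⁻¹ * (g * L.f1 p * g⁻¹) * (g * L.f1 p * g⁻¹) = g * L.f1 (p * p * p) * g⁻¹ := by
            rw [map_mul, map_mul]; group
        _ = 1 := by rw [(S24.c3_facts.2.1 p hp).2, map_one, mul_one, mul_inv_cancel])
    rcases L.pair_inj e2 with ⟨h1, -⟩ | ⟨h1, -⟩
    · refine out_invert h.toH hg h0 ?_
      have hgp : g * L.f1 p * g⁻¹ = L.f1 p := hp'.trans (congrArg L.f1 h1)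
      rcases hp with rfl | rfl | rfl
      · exact absurd rfl hp1
      · exact hgp
      · have := congrArg (·⁻¹) hgp
        simpa [lA, mul_assoc] using this
    · exact S24.cent_facts.2.2.2.2.2.2.2.2.2 (by
        have e4 : neg1 * p * (neg1 * p) * (neg1 * p) = 1 := by rw [← h1]; exact hp3
        revert hp e4
        clear * -
        revert p
        decide +kernel)
  rw [L.pair_mul, L.pair_inv, L.pair_mul] at e
  rcases L.pair_inj e with ⟨h1, h2⟩ | ⟨h1, -⟩
  · rcases S24.c3_facts.2.2.2.1 a p hp hp1 h1 with ha | ha <;> rcases S24.c3_facts.2.2.2.1 b q hq hq1 h2 with hb | hb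
    · exact Or.inl ⟨a, b, ha, hb, rfl⟩
    · right
      refine ⟨a, neg1 * b, ha, hb, ?_⟩
      rw [← mul_assoc, map_mul, L.z2, ← mul_assoc, (L.commz.1 (L.mem1 a))]
    · right
      refine ⟨neg1 * a, b, ha, hb, ?_⟩
      rw [map_mul, L.z1, mul_assoc]
    · left
      exact ⟨_, _, ha, hb, (L.neg_pair a b).symm⟩
  · exact absurd h1 (S24.c3_facts.2.2.2.2.1 a p hp)

theorem invol_diag (h : L.Std m t) {p q : S24} (hp : C3 p) (hp1 : p ≠ 1) (hq : C3 q) (hq1 : q ≠ 1) {g : G}
    (hg : g ∈ L.H) (hc : Commute g (L.f1 p * L.f2 q)) (h2 : g * g = 1) : g = 1 ∨ g = L.z := by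
  rcases cent_diag h hp hp1 hq hq1 hg hc with hr | hr
  · left
    have := L.Rd_cube hr
    rwa [h2, one_mul] at this
  · right
    have h3 := L.Rd_cube hr
    have e : L.z * g * (L.z * g) = 1 := by
      rw [← mul_assoc, mul_assoc L.z g L.z, L.commz.1 hg, ← mul_assoc L.z L.z, L.zz, one_mul, h2]
    rw [e, one_mul] at h3
    exact (eq_inv_of_mul_eq_one_right h3).trans L.z_inv

theorem comm_root (h : L.Letters m t P) (hno : IsEmpty (GG ≃* G)) {p : S24} (hp : C3 p) (hp1 : p ≠ 1) {g : G}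
    (hc : Commute g (L.f1 p)) : g ∈ L.H := by
  refine CA_le h hno (L.mem_CA.2 ?_)
  rcases hp with rfl | rfl | rfl
  · exact absurd rfl hp1
  · exact hc.eq
  · have := hc.inv_right
    rw [map_inv, inv_inv] at this
    exact this.eq

theorem diag_le (h : L.Letters m t P) (hno : IsEmpty (GG ≃* G)) {p q : S24} (hp : C3 p) (hp1 : p ≠ 1)
    (hq : C3 q) (hq1 : q ≠ 1) : centralizer ({L.f1 p * L.f2 q} : Set G) ≤ L.H := by
  classical
  haveI : Fact (Nat.Prime 3) := ⟨Nat.prime_three⟩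
  set x := L.f1 p * L.f2 q with hx
  set C := centralizer ({x} : Set G) with hC
  have memC : ∀ {g : G}, g ∈ C ↔ Commute g x := fun {g} => mem_centralizer_singleton_iff
  have hxR : x ∈ L.Rd := ⟨p, q, hp, hq, rfl⟩
  have hzC : L.z ∈ C := memC.2 (L.commz.1 (L.Rd_le hxR)).symm
  have hRC : L.Rd ≤ C := fun r hr => memC.2 (L.Rd_comm hr hxR)
  have hzR : ∀ r ∈ L.Rd, Commute L.z r := fun r hr => (L.commz.1 (L.Rd_le hr)).symm
  have hfix : ∀ g ∈ C, Commute g L.z → g ∈ L.Rd ∨ L.z * g ∈ L.Rd := fun g hg hgz =>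
    cent_diag h.toStd hp hp1 hq hq1 (L.commz.2 hgz) (memC.1 hg)
  -- isolation
  have hiso : Cfsg.IsIsolatedInvolution (⟨L.z, hzC⟩ : C) := by
    refine ⟨by rw [Subgroup.orderOf_mk]; exact Cfsg.Lib.InvolCalc.order_two_of_mul_self L.zz L.z_ne,
      fun g hg => Subtype.ext ?_⟩
    have hc : Commute L.z ((g : G) * L.z * (g : G)⁻¹) := congrArg Subtype.val hg
    have hsq : (g : G) * L.z * (g : G)⁻¹ * ((g : G) * L.z * (g : G)⁻¹) = 1 := by
      calc (g : G) * L.z * (g : G)⁻¹ * ((g : G) * L.z * (g : G)⁻¹) = g * (L.z * L.z) * (g : G)⁻¹ := by group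
        _ = 1 := by rw [L.zz, mul_one, mul_inv_cancel]
    rcases invol_diag h.toStd hp hp1 hq hq1 (L.commz.2 hc.symm.eq) (memC.1 (g * ⟨L.z, hzC⟩ * g⁻¹ : C).2) hsq
      with e | e
    · exact absurd (conj_eq_one_iff.1 e) L.z_ne
    · exact e
  have hodd := core2_odd C
  -- every element is fixed up to the core
  have hdec : ∀ g ∈ C, ∃ v ∈ core2 C, Commute (v * g) L.z := fun g hg => by
    set w := L.z * g * L.z⁻¹ * g⁻¹ with hw
    have hwO : w ∈ core2 C := ⟨_, Cfsg.Lib.ZStarApps.zstarProp hiso ⟨g, hg⟩, rfl⟩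
    have hwinv : L.z * w * L.z = w⁻¹ := by
      rw [hw]; simp [mul_inv_rev, L.z_inv, mul_assoc, ← mul_assoc L.z L.z, L.zz]
    obtain ⟨j, hj⟩ := odd_root (hodd.of_dvd_nat (by
      have := orderOf_dvd_natCard (⟨w, hwO⟩ : core2 C)
      rwa [Subgroup.orderOf_mk] at this))
    have hflip : L.z * w ^ j * L.z = (w ^ j)⁻¹ := by
      have h := conj_pow (i := j) (a := L.z) (b := w)
      rw [L.z_inv] at h
      rw [← h, hwinv, inv_pow]
    refine ⟨w ^ j, pow_mem hwO j, ?_⟩
    generalize hv : w ^ j = v at hj hflip ⊢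
    have e : L.z * (v * g) * L.z = v * g := by
      calc L.z * (v * g) * L.z = L.z * v * L.z * (L.z * g * L.z⁻¹ * g⁻¹) * g := by
            rw [L.z_inv]; simp [mul_assoc, ← mul_assoc L.z L.z, L.zz]
        _ = v⁻¹ * w * g := by rw [hflip]
        _ = v * g := by rw [← hj, inv_mul_cancel_left]
    calc v * g * L.z = L.z * (L.z * (v * g) * L.z) := by simp [mul_assoc, ← mul_assoc L.z L.z, L.zz]
      _ = L.z * (v * g) := by rw [e]
  -- the group of order nine is in the core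
  have hRO : L.Rd ≤ core2 C := by
    set O' := Cfsg.pPrimeCore 2 C with hO'
    set N := O' ⊔ L.Rd.subgroupOf C with hN
    haveI : N.Normal := ⟨fun n hn g => by
      have hR : ∀ r ∈ L.Rd.subgroupOf C, g * r * g⁻¹ ∈ N := fun r hr => by
        obtain ⟨v, hv, hvg⟩ := hdec g g.2
        obtain ⟨v', hv', rfl⟩ := hv
        have hcr : Commute ((v' : C) * g) r := Subtype.ext (by
          rcases hfix _ (C.mul_mem v'.2 g.2) hvg with hr' | hr'
          · exact (L.Rd_comm hr' (mem_subgroupOf.1 hr)).eq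
          · have hcm := ((hzR _ (mem_subgroupOf.1 hr)).mul_left (L.Rd_comm hr' (mem_subgroupOf.1 hr))).eq
            simpa [← mul_assoc L.z L.z, L.zz] using hcm)
        have e : g * r * g⁻¹ = v'⁻¹ * r * v' := by
          calc g * r * g⁻¹ = v'⁻¹ * ((v' * g) * r) * g⁻¹ := by group
            _ = v'⁻¹ * r * v' := by rw [hcr.eq]; group
        rw [e]
        exact N.mul_mem (N.mul_mem (N.inv_mem (mem_sup_left hv')) (mem_sup_right hr)) (mem_sup_left hv')
      have hle : N ≤ N.comap (MulAut.conj g).toMonoidHom :=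
        sup_le (fun o ho => mem_sup_left ((inferInstance : O'.Normal).conj_mem o ho g)) hR
      exact hle hn⟩
    have hNodd : (Nat.card N).Coprime 2 := by
      rw [← relIndex_bot_left, ← relIndex_mul_relIndex ⊥ O' N bot_le le_sup_left, relIndex_bot_left]
      refine Nat.Coprime.mul_left (Cfsg.Lib.Components.coprime_card_pPrimeCore 2) ?_
      rw [hN, relIndex_sup_left]
      refine Nat.Coprime.coprime_dvd_left (relIndex_dvd_card _ _) ?_
      have hp3 : IsPGroup 3 (L.Rd.subgroupOf C) := fun r => ⟨1, Subtype.ext (Subtype.ext (by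
        rw [pow_one, pow_succ, sq]; exact L.Rd_cube (mem_subgroupOf.1 r.2)))⟩
      obtain ⟨k, hk⟩ := hp3.exists_card_eq
      rw [hk]
      exact Nat.Coprime.pow_left k (by norm_num)
    exact fun r hr => ⟨⟨r, hRC hr⟩, Cfsg.Lib.Components.le_pPrimeCore hNodd (mem_sup_right (mem_subgroupOf.2 hr)), rfl⟩
  set O := core2 C with hOdef
  have hOz : ∀ o ∈ O, Commute o L.z → o ∈ L.Rd := fun o ho hoz => by
    rcases hfix o (core2_le C ho) hoz with hr | hr
    · exact hr
    · exfalso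
      have hzO : L.z ∈ O := by
        have := O.mul_mem (hRO hr) (O.inv_mem ho)
        rwa [mul_inv_cancel_right] at this
      have h2 : Odd (orderOf L.z) := hodd.of_dvd_nat (by
        have := orderOf_dvd_natCard (⟨L.z, hzO⟩ : O)
        rwa [Subgroup.orderOf_mk] at this)
      rw [Cfsg.Lib.InvolCalc.order_two_of_mul_self L.zz L.z_ne] at h2
      exact absurd h2 (by decide)
  have hzn : ∀ o ∈ O, L.z * o * L.z ∈ O := fun o ho => by
    have := core2_norm hzC ho
    rwa [L.z_inv] at this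
  -- Burnside
  set R := L.Rd.subgroupOf O with hR
  have hRp : IsPGroup 3 R := fun r => ⟨1, Subtype.ext (Subtype.ext (by
    rw [pow_one, pow_succ, sq]; exact L.Rd_cube (mem_subgroupOf.1 r.2)))⟩
  have hnorm : ∀ g ∈ normalizer (R : Set O), g ∈ R := fun g hg => by
    refine mem_subgroupOf.2 (hOz g g.2 ?_)
    have hrm : ∀ r ∈ L.Rd, (g : G)⁻¹ * r * g ∈ L.Rd := fun r hr => by
      have := (mem_normalizer_iff.1 (inv_mem hg) ⟨r, hRO hr⟩).1 (mem_subgroupOf.2 hr)
      simpa [mul_assoc] using mem_subgroupOf.1 this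
    set u := (g : G) * L.z * (g : G)⁻¹ with hu
    have hur : ∀ r ∈ L.Rd, Commute u r := fun r hr => by
      have := (Commute.conj_iff (g : G)).2 (hzR _ (hrm r hr))
      simpa [hu, mul_assoc] using this
    have huH : u ∈ L.H := by
      refine comm_root h hno hp hp1 ?_
      have := hur (L.f1 p) ⟨p, 1, hp, Or.inl rfl, by simp⟩
      exact this
    have h2 : u * u = 1 := by
      calc u * u = g * (L.z * L.z) * (g : G)⁻¹ := by rw [hu]; group
        _ = 1 := by rw [L.zz, mul_one, mul_inv_cancel]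
    rcases invol_diag h.toStd hp hp1 hq hq1 huH (hur x hxR) h2 with e | e
    · exact absurd (conj_eq_one_iff.1 (hu ▸ e)) L.z_ne
    · exact mul_inv_eq_iff_eq_mul.1 (hu ▸ e)
  obtain ⟨k, hk⟩ := hRp.exists_card_eq
  have hidx : ¬ 3 ∣ R.index := fun hd => by
    have hdvd : 3 ^ (k + 1) ∣ Nat.card O := by
      rw [← R.card_mul_index, hk, pow_succ]; exact Nat.mul_dvd_mul_left _ hd
    have h3 := Sylow.prime_dvd_card_quotient_normalizer hdvd hk
    have : R.comap (normalizer (R : Set O)).subtype = ⊤ := eq_top_iff.2 fun g _ => hnorm g g.2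
    rw [this] at h3
    rw [show Nat.card (normalizer (R : Set O) ⧸ (⊤ : Subgroup (normalizer (R : Set O)))) = 1 from index_top] at h3
    omega
  set S : Sylow 3 O := hRp.toSylow hidx with hS
  have hScoe : (S : Subgroup O) = R := hRp.toSylow_coe hidx
  have hSN : normalizer ((S : Subgroup O) : Set O) ≤ centralizer ((S : Subgroup O) : Set O) := by
    rw [hScoe]
    intro g hg
    exact mem_centralizer_iff.2 fun r hr => Subtype.ext
      (L.Rd_comm (mem_subgroupOf.1 hr) (mem_subgroupOf.1 (hnorm g hg))).eq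
  set φ := MonoidHom.transferSylow S hSN with hφ
  have hKc : ¬ 3 ∣ Nat.card φ.ker := MonoidHom.not_dvd_card_ker_transferSylow S hSN
  have hker : ∀ g : O, ¬ 3 ∣ orderOf g → g ∈ φ.ker := fun g hg => by
    obtain ⟨i, hi⟩ := S.2 (φ g)
    have h1 : orderOf (φ g) ∣ orderOf g := orderOf_map_dvd φ g
    have h2 : orderOf (φ g) ∣ 3 ^ i := orderOf_dvd_of_pow_eq_one hi
    exact orderOf_eq_one_iff.1 (Nat.eq_one_of_dvd_coprimes
      (Nat.Coprime.pow_right i ((Nat.prime_three.coprime_iff_not_dvd.2 hg).symm)) h1 h2)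
  set K : Subgroup G := φ.ker.map O.subtype with hK
  have hKodd : Odd (Nat.card K) := by
    rw [hK, Subgroup.card_map_of_injective O.subtype_injective]
    exact hodd.of_dvd_nat (Subgroup.card_subgroup_dvd_card _)
  have hKord : ∀ g ∈ K, ¬ 3 ∣ orderOf g := by
    rintro _ ⟨g, hg, rfl⟩ hd
    refine hKc (hd.trans ?_)
    rw [show O.subtype g = ((⟨g, hg⟩ : φ.ker) : O).1 from rfl, Subgroup.orderOf_coe, Subgroup.orderOf_coe]
    exact orderOf_dvd_natCard _
  have hKconj : ∀ u : G, u * u = 1 → (∀ o ∈ O, u * o * u ∈ O) → ∀ g ∈ K, u * g * u ∈ K := by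
    rintro u hu huO _ ⟨g, hg, rfl⟩
    refine ⟨⟨u * g * u, huO _ g.2⟩, hker _ ?_, rfl⟩
    rw [Subgroup.orderOf_mk]
    have := hKord _ ⟨g, hg, rfl⟩
    rwa [show u * (g : G) * u = MulAut.conj u (g : G) by rw [MulAut.conj_apply, inv_eq_of_mul_eq_one_right hu],
      MulEquiv.orderOf_eq]
  have hKO : K ≤ O := Subgroup.map_subtype_le _
  -- the three involutions act without fixed points
  have hsmall : ∀ c ∈ K, c ∈ L.H → c = 1 := fun c hc hcH => by
    obtain ⟨h3, -⟩ := cube_one hcH (hKodd.of_dvd_nat (by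
      have := orderOf_dvd_natCard (⟨c, hc⟩ : K)
      rwa [Subgroup.orderOf_mk] at this))
    have hd : orderOf c ∣ 3 := orderOf_dvd_of_pow_eq_one (by rw [pow_succ, sq]; exact h3)
    rcases (Nat.dvd_prime Nat.prime_three).1 hd with e | e
    · exact orderOf_eq_one_iff.1 e
    · exact absurd e.ge (fun _ => hKord c hc (e ▸ dvd_rfl))
  have htx : t * x * t = x⁻¹ := by
    rw [hx, show t * (L.f1 p * L.f2 q) * t = t * L.f1 p * t * (t * L.f2 q * t) by
      simp [mul_assoc, ← mul_assoc t t, h.tt], h.t1, h.t2, L.pair_inv]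
    have key : ∀ p : S24, C3 p → sg p = p⁻¹ := by decide +kernel
    rw [key p hp, key q hq]
  have htC : ∀ g ∈ C, t * g * t ∈ C := fun g hg => memC.2 (by
    have hc := ((memC.1 hg).inv_right).eq
    rw [← htx] at hc
    calc t * g * t * x = t * (g * (t * x * t)) * t := by simp [mul_assoc, ← mul_assoc t t, h.tt]
      _ = t * (t * x * t * g) * t := by rw [hc]
      _ = x * (t * g * t) := by simp [mul_assoc, ← mul_assoc t t, h.tt])
  have htn : ∀ o ∈ O, t * o * t ∈ O := fun o ho => core2_invol h.tt htC ho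
  have htz : Commute t L.z := L.commz.1 h.tH
  set s := t * L.z with hs
  have hss : s * s = 1 := by rw [hs, htz.symm.mul_mul_mul_comm, h.tt, L.zz, one_mul]
  have hsn : ∀ o ∈ O, s * o * s ∈ O := fun o ho => by
    have e : s * o * s = t * (L.z * o * L.z) * t := by
      calc s * o * s = t * L.z * o * (L.z * t) := by rw [hs, ← htz.eq]
        _ = _ := by simp only [mul_assoc]
    rw [e]; exact htn _ (hzn o ho)
  have inv_all : ∀ i : G, i * i = 1 → (∀ o ∈ O, i * o * i ∈ O) → (∀ c ∈ K, Commute c i → c = 1) →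
      ∀ g ∈ K, i * g * i = g⁻¹ := fun i hi hin hfx g hg => by
    obtain ⟨c, v, hc, -, hiv, e⟩ := fpf_inverts (S := {1}) hKodd hi (hKconj i hi hin g hg) hg
      fun c hc hci => Set.mem_singleton_iff.2 (hfx c hc hci)
    rw [Set.mem_singleton_iff.1 hc, one_mul] at e
    rw [e]; exact hiv
  have iz := inv_all L.z L.zz hzn fun c hc hci => hsmall c hc (L.commz.2 hci.eq)
  have hfixP : ∀ i : G, P * i * P⁻¹ = L.z → ∀ c ∈ K, Commute c i → c = 1 := fun i hi c hc hci => by
    have hH : P * c * P⁻¹ ∈ L.H := L.commz.2 (by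
      rw [← hi]
      exact ((Commute.conj_iff P).2 hci).eq)
    have hord : orderOf (P * c * P⁻¹) = orderOf c := MulEquiv.orderOf_eq (MulAut.conj P) c
    obtain ⟨h3, -⟩ := cube_one hH (hord ▸ hKodd.of_dvd_nat (by
      have := orderOf_dvd_natCard (⟨c, hc⟩ : K)
      rwa [Subgroup.orderOf_mk] at this))
    have hd : orderOf c ∣ 3 := hord ▸ orderOf_dvd_of_pow_eq_one (by rw [pow_succ, sq]; exact h3)
    rcases (Nat.dvd_prime Nat.prime_three).1 hd with e | e
    · exact orderOf_eq_one_iff.1 e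
    · exact absurd (e ▸ dvd_rfl) (hKord c hc)
  have hPs : P * s * P⁻¹ = L.z := by
    calc P * (t * L.z) * P⁻¹ = P * t * P⁻¹ * (P * L.z * P⁻¹) := by group
      _ = L.z := by rw [Pt h.toH, Pz h.toH, htz.eq, mul_assoc, h.tt, mul_one]
  have its := inv_all s hss hsn (hfixP s hPs)
  have ht' : ∀ c ∈ K, Commute c t → c = 1 := fun c hc hct => by
    have hp' : P⁻¹ * c * P ∈ L.H := L.commz.2 (by
      calc P⁻¹ * c * P * L.z = P⁻¹ * (c * (P * L.z * P⁻¹)) * P := by group
        _ = P⁻¹ * ((P * L.z * P⁻¹) * c) * P := by rw [Pz h.toH, hct.eq]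
        _ = L.z * (P⁻¹ * c * P) := by group)
    have hord : orderOf (P⁻¹ * c * P) = orderOf c := by
      have := MulEquiv.orderOf_eq (MulAut.conj P⁻¹) c
      rwa [MulAut.conj_apply, inv_inv] at this
    obtain ⟨h3, -⟩ := cube_one hp' (hord ▸ hKodd.of_dvd_nat (by
      have := orderOf_dvd_natCard (⟨c, hc⟩ : K)
      rwa [Subgroup.orderOf_mk] at this))
    have hd : orderOf c ∣ 3 := hord ▸ orderOf_dvd_of_pow_eq_one (by rw [pow_succ, sq]; exact h3)
    rcases (Nat.dvd_prime Nat.prime_three).1 hd with e | e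
    · exact orderOf_eq_one_iff.1 e
    · exact absurd (e ▸ dvd_rfl) (hKord c hc)
  have itt := inv_all t h.tt htn ht'
  have hK1 : ∀ g ∈ K, g = 1 := fun g hg => by
    refine ht' g hg ?_
    have e1 := iz g hg
    have e2 := its g hg
    have e3 : t * g⁻¹ * t = g⁻¹ := by
      conv_rhs => rw [← e2, hs]
      calc t * g⁻¹ * t = t * (L.z * g * L.z) * t := by rw [e1]
        _ = t * L.z * g * (L.z * t) := by simp only [mul_assoc]
        _ = t * L.z * g * (t * L.z) := by rw [htz.eq]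
    have e4 := congrArg (·⁻¹) e3
    simp only [mul_inv_rev, inv_inv, inv_eq_of_mul_eq_one_right h.tt, ← mul_assoc] at e4
    calc g * t = t * g * t * t := by rw [e4]
      _ = t * g := by rw [mul_assoc _ t t, h.tt, mul_one]
  have hOR : ∀ o ∈ O, o ∈ L.Rd := fun o ho => by
    have hbot : φ.ker = ⊥ := (Subgroup.eq_bot_iff_forall _).2 fun g hg => Subtype.ext (hK1 _ ⟨g, hg, rfl⟩)
    have hc := (MonoidHom.ker_transferSylow_isComplement' S hSN).card_mul_card
    rw [← hφ, hbot, Subgroup.card_bot, one_mul, hScoe] at hc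
    have htop : R = ⊤ := Subgroup.eq_top_of_card_eq R hc
    exact mem_subgroupOf.1 (htop ▸ mem_top (⟨o, ho⟩ : O) : (⟨o, ho⟩ : O) ∈ R)
  intro g hg
  obtain ⟨v, hv, hvg⟩ := hdec g hg
  have := L.H.mul_mem (L.H.inv_mem (L.Rd_le (hOR v hv))) (L.commz.2 hvg.eq)
  rwa [inv_mul_cancel_left] at this

theorem three_form (h : L.Letters m t P) {x : G} (hx : x ∈ L.H) (h3 : x * x * x = 1) :
    ∃ p q, p * p * p = 1 ∧ q * q * q = 1 ∧ x = L.f1 p * L.f2 q := by
  have hodd : Odd (orderOf x) :=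
    (show Odd 3 by decide).of_dvd_nat (orderOf_dvd_of_pow_eq_one (by rw [pow_succ, sq]; exact h3))
  obtain ⟨-, a, b, e⟩ := cube_one hx hodd
  rw [e, L.pair_mul, L.pair_mul, show (1 : G) = L.f1 1 * L.f2 1 by simp] at h3
  rcases L.pair_inj h3 with ⟨h1, h2⟩ | ⟨h1, h2⟩
  · exact ⟨a, b, h1, h2, e⟩
  · exact ⟨_, _, S24.cent_facts.2.2.2.1 a (h1.trans (mul_one _)), S24.cent_facts.2.2.2.1 b (h2.trans (mul_one _)),
      e.trans (L.neg_pair a b).symm⟩

theorem three_frame (h : L.Letters m t P) {x : G} (hx : x ∈ L.H) (h3 : x * x * x = 1) :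
    ∃ u ∈ L.H, u * x * u⁻¹ ∈ L.Rd := by
  obtain ⟨p, q, hp, hq, rfl⟩ := three_form h hx h3
  obtain ⟨a, ha⟩ := S24.c3_facts.2.2.2.2.2 p hp
  obtain ⟨b, hb⟩ := S24.c3_facts.2.2.2.2.2 q hq
  refine ⟨L.f1 a * L.f2 b, L.mem0 ⟨a, b, rfl⟩, a * p * a⁻¹, b * q * b⁻¹, ha, hb, ?_⟩
  rw [L.pair_mul, L.pair_inv, L.pair_mul]

/-- Without companions the centraliser of every element of order three lies in the centraliser of the involution. -/
theorem three_le (h : L.Letters m t P) (hno : IsEmpty (GG ≃* G)) {x : G} (hx : x ∈ L.H) (h3 : x * x * x = 1)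
    (hx1 : x ≠ 1) : centralizer ({x} : Set G) ≤ L.H := by
  obtain ⟨u, hu, p, q, hp, hq, e⟩ := three_frame h hx h3
  have hpq : centralizer ({L.f1 p * L.f2 q} : Set G) ≤ L.H := by
    by_cases hp1 : p = 1
    · subst hp1
      rw [map_one, one_mul] at e ⊢
      refine fun g hg => CC_le h hno ?_
      rcases hq with rfl | rfl | rfl
      · exact absurd (conj_eq_one_iff.1 (e.trans (map_one _))) hx1
      · exact hg
      · refine mem_centralizer_singleton_iff.2 ?_
        have hc : Commute g (L.f2 cu⁻¹) := mem_centralizer_singleton_iff.1 hg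
        have := hc.inv_right
        rw [map_inv, inv_inv] at this
        exact this.eq
    · by_cases hq1 : q = 1
      · subst hq1
        rw [map_one, mul_one]
        exact fun g hg => comm_root h hno hp hp1 (mem_centralizer_singleton_iff.1 hg)
      · exact diag_le h hno hp hp1 hq hq1
  intro g hg
  have hc : Commute g x := mem_centralizer_singleton_iff.1 hg
  have hm : u * g * u⁻¹ ∈ L.H := hpq (mem_centralizer_singleton_iff.2 (by
    rw [← e]; exact ((Commute.conj_iff u).2 hc).eq))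
  have := L.H.mul_mem (L.H.mul_mem (L.H.inv_mem hu) hm) hu
  simpa [mul_assoc] using this

end Loc

end Cfsg.Lib.GTwoRecog
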