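import Mathlib

/-!
The possible numbers of involutions.
-/

set_option autoImplicit false
set_option maxHeartbeats 800000

namespace Cfsg.Lib.GTwoRecog

/-- The two factors whose product is divided by the difference. -/
def facA (x : ℕ) : ℕ := if x = 0 then 81 else 144
/-- The two factors whose product is divided by the difference. -/
def facB (x : ℕ) : ℕ := if x = 0 then 128 else x * (x + 1)

/-- The test at a candidate. -/
def cand (x e : ℤ) : Bool :=
  let num := 10368 * ((x + e) * (x + e + 1))
  let n := num / (e * e)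
  decide (e = 0) || decide (num % (e * e) ≠ 0) || decide (n ≤ 0) || decide (n % 2 = 0) || decide (n % 9 ≠ 1) || decide (n % 7 ≠ 0) ||
    decide (n = 8911) || decide (n = 11935)

theorem cand_all : ∀ x < 17, ∀ a < 145, facA x % a = 0 → ∀ b < 273, facB x % b = 0 →
    cand (x : ℤ) ((a * b : ℕ) : ℤ) = true ∧ cand (x : ℤ) (-((a * b : ℕ) : ℤ)) = true := by
  have h : (List.range 17).all (fun x => (List.range 145).all fun a => (facA x % a != 0) ||
      (List.range 273).all fun b => (facB x % b != 0) ||
        (cand (x : ℤ) ((a * b : ℕ) : ℤ) && cand (x : ℤ) (-((a * b : ℕ) : ℤ)))) = true := by decide +kernel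
  simp only [List.all_eq_true, List.mem_range, Bool.or_eq_true, Bool.and_eq_true, bne_iff_ne] at h
  intro x hx a ha hA b hb hB
  rcases (h x hx a ha).resolve_left (fun e => e hA) b hb with e | e
  · exact absurd hB e
  · exact e

theorem exc_arith {n d x : ℤ} (hodd : n % 2 = 1) (h9 : n % 9 = 1) (h7 : n % 7 = 0) (hn : 0 < n) (hd : d ≠ 0)
    (hd1 : d + 1 ≠ 0) (hx : x * x + (1 + x) * (1 + x) ≤ 575) (h : n * ((d - x) * (d - x)) = 10368 * (d * (d + 1))) :
    n = 8911 ∨ n = 11935 := by
  wlog hx0 : 0 ≤ x generalizing d x with H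
  · exact H (d := -1 - d) (x := -1 - x) (fun e => hd1 (by omega)) (fun e => hd (by omega)) (by nlinarith) (by linear_combination h)
      (by omega)
  have hx16 : x ≤ 16 := by nlinarith
  obtain ⟨k, rfl⟩ := Int.eq_ofNat_of_zero_le hx0
  set e := d - (k : ℤ) with he
  have he0 : e ≠ 0 := fun e0 => by
    rw [e0] at h
    simp only [mul_zero] at h
    exact mul_ne_zero hd hd1 ((mul_eq_zero.1 h.symm).resolve_left (by norm_num))
  have hk : k < 17 := by omega
  have hdvd : e ∣ ((facA k * facB k : ℕ) : ℤ) := by
    by_cases hk0 : k = 0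
    · subst hk0
      refine ⟨n - 10368, ?_⟩
      have hde : d = e := by rw [he]; simp
      have h2 : e * (n * e) = e * (10368 * (e + 1)) := by rw [hde] at h; linear_combination h
      have := mul_left_cancel₀ he0 h2
      simp only [facA, facB, if_true]
      push_cast
      linear_combination -this
    · have hc : facA k * facB k = 144 * (k * (k + 1)) := by simp [facA, facB, hk0]
      rw [hc]
      have hde : d = e + k := by rw [he]; ring
      rw [hde] at h
      set c : ℤ := (k : ℤ) * (k + 1) with hcdef
      have h1 : e ∣ 10368 * c := ⟨n * e - 10368 * (e + 2 * k + 1), by rw [hcdef]; linear_combination -h⟩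
      obtain ⟨r, hr⟩ := h1
      have h2 : e * e ∣ (144 * c) * (144 * c) := by
        refine ⟨2 * (n * c - 10368 * c - r * (2 * k + 1)), ?_⟩
        linear_combination -2 * (2 * (k : ℤ) + 1) * e * hr - 2 * c * h
      have := (Int.pow_dvd_pow_iff (n := 2) (a := e) (b := 144 * c) (by norm_num)).1 (by rwa [sq, sq])
      push_cast
      exact this
  have hN : e.natAbs ∣ facA k * facB k := Int.natCast_dvd_natCast.1 (Int.natAbs_dvd.2 hdvd)
  obtain ⟨a, b, ha, hb, hab⟩ := Nat.dvd_mul.1 hN
  have hAb : a < 145 := by
    have := Nat.le_of_dvd (by unfold facA; split <;> norm_num) ha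
    unfold facA at this; split at this <;> omega
  have hBb : b < 273 := by
    have hpos : 0 < facB k := by unfold facB; split <;> positivity
    have := Nat.le_of_dvd hpos hb
    unfold facB at this
    split at this
    · omega
    · have : k * (k + 1) ≤ 16 * 17 := Nat.mul_le_mul (by omega) (by omega)
      omega
  obtain ⟨c1, c2⟩ := cand_all k hk a hAb (Nat.mod_eq_zero_of_dvd ha) b hBb (Nat.mod_eq_zero_of_dvd hb)
  have hc : cand (k : ℤ) e = true := by
    rw [hab] at c1 c2
    rcases Int.natAbs_eq e with e' | e' <;> rw [e']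
    exacts [c1, c2]
  have hdv : (10368 : ℤ) * ((k + e) * (k + e + 1)) = n * (e * e) := by
    rw [show (k : ℤ) + e = d by rw [he]; ring, h]
  have hq : (10368 : ℤ) * ((k + e) * (k + e + 1)) / (e * e) = n := by
    rw [hdv, Int.mul_ediv_cancel _ (mul_ne_zero he0 he0)]
  have hr : (10368 : ℤ) * ((k + e) * (k + e + 1)) % (e * e) = 0 := by rw [hdv]; exact Int.mul_emod_left _ _
  simp only [cand, hq, hr, Bool.or_eq_true, decide_eq_true_eq] at hc
  omega

end Cfsg.Lib.GTwoRecog
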