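import Cfsg.Agent.GTwoRecog.Diagonal

/-!
Tables for the exceptional character.
-/

set_option autoImplicit false
set_option maxHeartbeats 1000000

namespace Cfsg.Lib.GTwoRecog

namespace S24

/-- The character onto the group of order three. -/
def lam (a : S24) : ZMod 3 := if inQ a then 0 else if inQ (cu⁻¹ * a) then 1 else 2

theorem lam_facts :
    (∀ a b : S24, lam (a * b) = lam a + lam b) ∧ lam neg1 = 0 ∧ (∀ a : S24, lam (sg a) = -lam a) ∧ lam cu = 1 ∧
    (∀ a : S24, a * a = 1 → lam a = 0) ∧ (∀ a : S24, lam a⁻¹ = -lam a) ∧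
    (∀ a : S24, lam (a * a * (a * a)) = lam a ∧
      a * a * (a * a) * (a * a * (a * a)) * (a * a * (a * a)) = 1) := by
  unfold lam inQ
  refine ⟨?_, ?_, ?_, ?_, ?_, ?_, ?_⟩ <;> decide +kernel

/-- An element of one copy with the given signs: inverted and of order two modulo the centre. -/
def Half (e d : Bool) (a p : S24) : Prop :=
  a * sg a = cond e neg1 1 ∧ a * sg p * sg a = cond d neg1 1 * p⁻¹

instance (e d : Bool) (a p : S24) : Decidable (Half e d a p) := inferInstanceAs (Decidable (_ ∧ _))

/-- The number of such pairs with the given value of the character. -/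
def score (e d : Bool) (i : ZMod 3) : ℕ :=
  (Finset.univ.filter fun w : S24 × S24 => lam w.2 = i ∧ Half e d w.1 w.2).card

theorem score_sum :
    ∑ e : Bool, ∑ d : Bool, ∑ i : ZMod 3, ∑ j : ZMod 3, (if i = j then 0 else score e d i * score e d j) = 13824 := by
  unfold score lam inQ
  decide +kernel

theorem half_unique {e d e' d' : Bool} {a p : S24} (h : Half e d a p) (h' : Half e' d' a p) : e = e' ∧ d = d' := by
  have hne : (neg1 : S24) ≠ 1 := gen_facts.2.2.2.2.2.2.1
  refine ⟨?_, ?_⟩
  · have := h.1.symm.trans h'.1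
    cases e <;> cases e' <;> simp only [cond_true, cond_false] at this ⊢
    exacts [absurd this.symm hne, absurd this hne]
  · have := mul_right_cancel (h.2.symm.trans h'.2)
    cases d <;> cases d' <;> simp only [cond_true, cond_false] at this ⊢
    exacts [absurd this.symm hne, absurd this hne]

theorem invol_table :
    (∀ a b : S24, (a * sg a = 1 ∧ b * sg b = 1) ∨ (a * sg a = neg1 ∧ b * sg b = neg1) →
      ∃ c d : S24, (c * sg c⁻¹ = a ∧ d * sg d⁻¹ = b) ∨ (c * sg c⁻¹ = neg1 * a ∧ d * sg d⁻¹ = neg1 * b)) ∧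
    (∀ p : S24, p * p = neg1 → ∃ c : S24, c * p * c⁻¹ = cw) := by
  refine ⟨?_, ?_⟩ <;> decide +kernel

theorem no_outer_central : ∀ a : S24, ¬ (∀ q : S24, inQ q → a * sg q * a⁻¹ = q) := by
  unfold inQ
  decide +kernel

end S24

end Cfsg.Lib.GTwoRecog
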