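import Cfsg.Agent.GTwoRecog.Fusion
import Cfsg.Agent.LocalThree.NineTI
import Cfsg.Agent.S0944

/-!
The exceptional character and the equation for the number of involutions.
-/

set_option autoImplicit false
set_option maxHeartbeats 800000

namespace Cfsg.Lib.GTwoRecog

open Subgroup Cfsg.Lib.Chars
open S24 (neg1 inQ cu cl sg cw lam Half score)
open Cfsg.Lib.NineTI (ompow ompow_add ompow_zero ompow_pair conj_ompow)
open scoped ComplexConjugate _root_.Classical

theorem three_terms {ι : Type*} [Fintype ι] [DecidableEq ι] (n : ι → ℤ) (o : ι) (ho : n o = 1)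
    (h : ∑ i, n i * n i = 3) :
    ∃ a b, a ≠ o ∧ b ≠ o ∧ a ≠ b ∧ n a * n a = 1 ∧ n b * n b = 1 ∧ ∀ i, i ≠ o → i ≠ a → i ≠ b → n i = 0 := by
  have hs := Finset.add_sum_erase Finset.univ (fun i => n i * n i) (Finset.mem_univ o)
  rw [h, ho] at hs
  obtain ⟨a, ha, hna⟩ := Finset.exists_ne_zero_of_sum_ne_zero
    (show ∑ i ∈ Finset.univ.erase o, n i * n i ≠ 0 by omega)
  have one : ∀ i ∈ Finset.univ.erase o, n i * n i ≠ 0 → n i * n i = 1 := fun i hi hne => by
    have hle : n i * n i ≤ 2 := by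
      have := Finset.single_le_sum (f := fun i => n i * n i) (fun x _ => mul_self_nonneg _) hi
      omega
    have b1 : n i ≤ 1 := by nlinarith
    have b2 : -1 ≤ n i := by nlinarith
    interval_cases (n i) <;> simp_all
  have hs2 := Finset.add_sum_erase (Finset.univ.erase o) (fun i => n i * n i) ha
  have hna1 := one a ha hna
  obtain ⟨b, hb, hnb⟩ := Finset.exists_ne_zero_of_sum_ne_zero
    (show ∑ i ∈ (Finset.univ.erase o).erase a, n i * n i ≠ 0 by omega)
  have hb' : b ∈ Finset.univ.erase o := Finset.mem_of_mem_erase hb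
  have hnb1 := one b hb' hnb
  have hs3 := Finset.add_sum_erase ((Finset.univ.erase o).erase a) (fun i => n i * n i) hb
  refine ⟨a, b, Finset.ne_of_mem_erase ha, Finset.ne_of_mem_erase hb', (Finset.ne_of_mem_erase hb).symm, hna1, hnb1,
    fun i h1 h2 h3 => ?_⟩
  have h0 : ∑ x ∈ ((Finset.univ.erase o).erase a).erase b, n x * n x = 0 := by omega
  simpa using (Finset.sum_eq_zero_iff_of_nonneg fun x _ => mul_self_nonneg _).1 h0 i (by simp [h1, h2, h3])

theorem pair_split (A : S24 × S24 → ℕ) (S : ZMod 3 → ℕ)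
    (hS : ∀ i, S i = ∑ u : S24 × S24, if lam u.2 = i then A u else 0) :
    ∑ w : S24 × S24, ∑ v : S24 × S24, (if lam w.1 = lam w.2 then 0 else A (v.1, w.1) * A (v.2, w.2)) =
      ∑ i : ZMod 3, ∑ j : ZMod 3, (if i = j then 0 else S i * S j) := by
  have e : ∀ i j : ZMod 3, (if i = j then 0 else S i * S j) =
      ∑ u : S24 × S24, ∑ u' : S24 × S24, if lam u.2 = i then (if lam u'.2 = j then (if i = j then 0 else A u * A u') else 0) else 0 := by
    intro i j
    rw [hS, hS, Finset.sum_mul]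
    split_ifs with hij
    · simp
    · refine Finset.sum_congr rfl fun u _ => ?_
      rw [Finset.mul_sum]
      refine Finset.sum_congr rfl fun u' _ => ?_
      split_ifs <;> simp
  have one : ∀ u u' : S24 × S24, ∑ i : ZMod 3, ∑ j : ZMod 3,
      (if lam u.2 = i then (if lam u'.2 = j then (if i = j then 0 else A u * A u') else 0) else 0) =
      if lam u.2 = lam u'.2 then 0 else A u * A u' := by
    intro u u'
    rw [Finset.sum_eq_single (lam u.2) (fun i _ hne => Finset.sum_eq_zero fun j _ => if_neg (Ne.symm hne))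
      (fun hne => absurd (Finset.mem_univ _) hne), Finset.sum_eq_single (lam u'.2) (fun j _ hne => by simp [Ne.symm hne])
      (fun hne => absurd (Finset.mem_univ _) hne), if_pos rfl, if_pos rfl]
  have eR : ∑ i : ZMod 3, ∑ j : ZMod 3, (if i = j then 0 else S i * S j) =
      ∑ u : S24 × S24, ∑ u' : S24 × S24, (if lam u.2 = lam u'.2 then 0 else A u * A u') := by
    rw [Finset.sum_congr rfl fun i _ => Finset.sum_congr rfl fun j _ => e i j]
    refine (Finset.sum_congr rfl fun i _ => Finset.sum_comm).trans (Finset.sum_comm.trans ?_)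
    refine Finset.sum_congr rfl fun u _ => ?_
    refine (Finset.sum_congr rfl fun i _ => Finset.sum_comm).trans (Finset.sum_comm.trans ?_)
    exact Finset.sum_congr rfl fun u' _ => one u u'
  rw [eR, ← Fintype.sum_prod_type', ← Fintype.sum_prod_type']
  let φ : (S24 × S24) × S24 × S24 ≃ (S24 × S24) × S24 × S24 :=
    { toFun := fun z => ((z.2.1, z.1.1), (z.2.2, z.1.2))
      invFun := fun z => ((z.1.2, z.2.2), (z.1.1, z.2.1))
      left_inv := fun _ => rfl
      right_inv := fun _ => rfl }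
  exact Fintype.sum_equiv φ _ _ fun z => rfl

universe u

variable {G : Type u} [Group G]

namespace Loc

open HLoc

variable (L : Loc G)

/-- The map from the two copies. -/
def Phi : S24 × S24 →* G := L.f1.noncommCoprod L.f2 L.comm

theorem Phi_apply (w : S24 × S24) : L.Phi w = L.f1 w.1 * L.f2 w.2 := rfl

/-- The product of the two copies. -/
def H0 : Subgroup G := L.Phi.range

theorem mem_H0 {g : G} : g ∈ L.H0 ↔ ∃ w, L.Phi w = g := MonoidHom.mem_range

theorem H0_le : L.H0 ≤ L.H := by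
  rintro _ ⟨w, rfl⟩
  exact L.mem0 ⟨w.1, w.2, rfl⟩

theorem Phi_eq {v w : S24 × S24} :
    L.Phi v = L.Phi w ↔ v = w ∨ v = (neg1 * w.1, neg1 * w.2) := by
  constructor
  · intro e
    exact (L.pair_inj e).imp (fun h => Prod.ext h.1 h.2) fun h => Prod.ext h.1 h.2
  · rintro (rfl | rfl)
    exacts [rfl, L.neg_pair _ _]

theorem neg_ne (w : S24 × S24) : w ≠ (neg1 * w.1, neg1 * w.2) := fun e => by
  have := congrArg Prod.fst e
  exact S24.gen_facts.2.2.2.2.2.2.1 (right_eq_mul.1 this)

/-- The value of the character of order three. -/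
noncomputable def kval (L : Loc G) (g : G) : ZMod 3 :=
  if h : ∃ w, L.Phi w = g then lam h.choose.1 - lam h.choose.2 else 0

theorem kval_Phi (w : S24 × S24) : L.kval (L.Phi w) = lam w.1 - lam w.2 := by
  have hex : ∃ v, L.Phi v = L.Phi w := ⟨w, rfl⟩
  rw [kval, dif_pos hex]
  rcases L.Phi_eq.1 hex.choose_spec with e | e <;> rw [e]
  rw [S24.lam_facts.1, S24.lam_facts.1, S24.lam_facts.2.1]
  simp

theorem kval_mul {x y : G} (hx : x ∈ L.H0) (hy : y ∈ L.H0) : L.kval (x * y) = L.kval x + L.kval y := by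
  obtain ⟨v, rfl⟩ := hx
  obtain ⟨w, rfl⟩ := hy
  rw [← map_mul, kval_Phi, kval_Phi, kval_Phi, Prod.fst_mul, Prod.snd_mul, S24.lam_facts.1, S24.lam_facts.1]
  ring

theorem kval_one : L.kval 1 = 0 := by
  rw [← map_one L.Phi, kval_Phi]
  simp

/-- The function to induce. -/
noncomputable def psi : L.H0 → ℂ := fun x => 1 - ompow (L.kval x)

theorem gen_psi : Cfsg.IsGeneralizedCharacter L.H0 L.psi := by
  have homU : ∀ e : ZMod 3, ompow e * ompow (-e) = 1 := fun e => by rw [← ompow_add, add_neg_cancel, ompow_zero]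
  let f : L.H0 →* ℂˣ :=
    { toFun := fun s => ⟨ompow (L.kval s), ompow (-L.kval s), homU _, by rw [mul_comm]; exact homU _⟩
      map_one' := Units.ext (by
        show ompow (L.kval ((1 : L.H0) : G)) = 1
        rw [Subgroup.coe_one, kval_one, ompow_zero])
      map_mul' := fun s t => Units.ext (by
        show ompow (L.kval ((s : G) * t)) = _ * _
        rw [kval_mul L s.2 t.2, ompow_add]) }
  exact IsGeneralizedCharacter.sub (IsCharacter.isGeneralized isCharacter_one)
    (IsCharacter.isGeneralized (isCharacter_linear f))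

/-- The weight. -/
noncomputable def wgt (L : Loc G) (g : G) : ℂ := if L.kval g = 0 then 0 else 1

theorem sum_H0 [Fintype L.H0] (F : G → ℂ) : 2 * ∑ x : L.H0, F x = ∑ w, F (L.Phi w) := by
  classical
  rw [← Finset.sum_fiberwise (Finset.univ : Finset (S24 × S24)) (fun w => (⟨L.Phi w, w, rfl⟩ : L.H0))
    (fun w => F (L.Phi w)), Finset.mul_sum]
  refine Finset.sum_congr rfl fun x _ => ?_
  obtain ⟨v, hv⟩ := x.2
  have hfib : (Finset.univ.filter fun w => (⟨L.Phi w, w, rfl⟩ : L.H0) = x) = {v, (neg1 * v.1, neg1 * v.2)} := by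
    ext w
    simp only [Finset.mem_filter, Finset.mem_univ, true_and, Finset.mem_insert, Finset.mem_singleton]
    rw [← L.Phi_eq, hv]
    exact Subtype.ext_iff
  rw [hfib, Finset.sum_pair (neg_ne v), show L.Phi (neg1 * v.1, neg1 * v.2) = L.Phi v from L.Phi_eq.2 (Or.inr rfl), hv,
    two_mul]

theorem card_H0 : Nat.card L.H0 = 288 := by
  classical
  haveI : Finite L.H0 := Finite.of_surjective L.Phi.rangeRestrict L.Phi.rangeRestrict_surjective
  have := Fintype.ofFinite L.H0
  have h := L.sum_H0 fun _ => 1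
  simp only [Finset.sum_const, Finset.card_univ, nsmul_eq_mul, mul_one, Fintype.card_prod] at h
  rw [← Nat.card_eq_fintype_card, ← Nat.card_eq_fintype_card (α := S24), S24.card_eq] at h
  have : 2 * Nat.card L.H0 = 24 * 24 := by exact_mod_cast h
  omega

theorem sum_wgt [Fintype L.H0] : ∑ x : L.H0, L.wgt x = 192 := by
  have h := L.sum_H0 L.wgt
  have e : ∑ w, L.wgt (L.Phi w) = 384 := by
    simp only [wgt, kval_Phi, Finset.sum_ite, Finset.sum_const_zero, zero_add, Finset.sum_const, nsmul_eq_mul, mul_one]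
    rw [show (Finset.univ.filter fun w : S24 × S24 => ¬ lam w.1 - lam w.2 = 0).card = 384 by
      unfold S24.lam S24.inQ; decide +kernel]
    norm_num
  rw [e] at h
  linear_combination h / 2

variable {L} {m t P : G}

theorem tPhi (h : L.Isolated m t P) (w : S24 × S24) : t * L.Phi w * t = L.Phi (sg w.1, sg w.2) := by
  rw [Phi_apply, Phi_apply, ← h.t1, ← h.t2]
  simp [mul_assoc, ← mul_assoc t t, h.tt]

variable [Fintype G]

/-- The exceptional character. -/
noncomputable def theta (L : Loc G) : G → ℂ := Cfsg.indFun L.H0 L.psi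

theorem theta_one : theta L 1 = 0 := by
  rw [theta, indFun_one]
  simp [psi, kval_one, ompow_zero]

theorem theta_z (h : L.Isolated m t P) : theta L L.z = 0 := by
  rw [theta, indFun_apply]
  refine mul_eq_zero_of_right _ (Finset.sum_eq_zero fun x _ => ?_)
  by_cases hm : x⁻¹ * L.z * x ∈ L.H0
  · rw [extendByZero_mem _ hm]
    obtain ⟨w, hw⟩ := hm
    have h2 : L.Phi (w * w) = L.Phi 1 := by
      rw [map_mul, hw, map_one]
      calc x⁻¹ * L.z * x * (x⁻¹ * L.z * x) = x⁻¹ * (L.z * L.z) * x := by group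
        _ = 1 := by rw [L.zz]; group
    have hk : lam w.1 - lam w.2 = 0 := by
      have : ∀ a b : ZMod 3, a + a - (b + b) = 0 → a - b = 0 := by decide
      refine this _ _ ?_
      rw [← S24.lam_facts.1, ← S24.lam_facts.1, ← Prod.fst_mul, ← Prod.snd_mul, ← L.kval_Phi, h2, map_one, kval_one]
    show 1 - ompow (L.kval (x⁻¹ * L.z * x)) = 0
    rw [← hw, kval_Phi, hk, ompow_zero, sub_self]
  · exact extendByZero_not_mem _ hm

theorem theta_val (h : L.Isolated m t P) {w : S24 × S24} (hk : lam w.1 ≠ lam w.2) : theta L (L.Phi w) = 3 := by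
  classical
  set k := lam w.1 - lam w.2 with hkdef
  have hval : ∀ x : G, Cfsg.extendByZero L.H0 L.psi (x⁻¹ * L.Phi w * x) =
      if x ∈ L.H then (if L.In0 x then 1 - ompow k else 1 - ompow (-k)) else 0 := by
    intro x
    have lamc : ∀ a p : S24, lam (a⁻¹ * p * a) = lam p := fun a p => by
      rw [S24.lam_facts.1, S24.lam_facts.1, S24.lam_facts.2.2.2.2.2.1]; ring
    split_ifs with hx h0
    · obtain ⟨a, b, rfl⟩ := h0
      have e : (L.f1 a * L.f2 b)⁻¹ * L.Phi w * (L.f1 a * L.f2 b) = L.Phi ((a, b)⁻¹ * w * (a, b)) := by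
        rw [map_mul, map_mul, map_inv]; rfl
      rw [extendByZero_mem _ (L.mem_H0.2 ⟨_, e.symm⟩)]
      show 1 - ompow (L.kval ((L.f1 a * L.f2 b)⁻¹ * L.Phi w * (L.f1 a * L.f2 b))) = _
      rw [e, kval_Phi]
      simp [lamc, hkdef]
    · obtain ⟨a, b, rfl⟩ := L.out_form h.tH h.t0 hx h0
      have e : (L.f1 a * L.f2 b * t)⁻¹ * L.Phi w * (L.f1 a * L.f2 b * t) =
          L.Phi (sg ((a, b)⁻¹ * w * (a, b)).1, sg ((a, b)⁻¹ * w * (a, b)).2) := by
        rw [← tPhi h, map_mul, map_mul, map_inv, Phi_apply L (a, b), mul_inv_rev,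
          inv_eq_of_mul_eq_one_right h.tt]
        simp only [mul_assoc]
      rw [extendByZero_mem _ (L.mem_H0.2 ⟨_, e.symm⟩)]
      show 1 - ompow (L.kval ((L.f1 a * L.f2 b * t)⁻¹ * L.Phi w * (L.f1 a * L.f2 b * t))) = _
      rw [e, kval_Phi]
      simp [lamc, S24.lam_facts.2.2.1, hkdef]
      congr 1; ring
    · refine extendByZero_not_mem _ fun hm => hx ?_
      have := sing_ti h hk (g := x⁻¹) (by rw [inv_inv]; exact L.H0_le hm)
      simpa using L.H.inv_mem this
  rw [theta, indFun_apply, Finset.sum_congr rfl fun x _ => hval x, ← Finset.sum_filter, Finset.sum_ite,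
    Finset.sum_const, Finset.sum_const, L.card_H0]
  have hA : ((Finset.univ.filter fun x => x ∈ L.H).filter fun x => L.In0 x).card = 288 := by
    rw [← L.card_H0, Nat.card_eq_fintype_card, Finset.filter_filter]
    refine (Fintype.card_of_subtype _ fun x => ?_).symm
    simp only [Finset.mem_filter, Finset.mem_univ, true_and]
    exact ⟨fun ⟨_, a, b, e⟩ => ⟨(a, b), e.symm⟩, fun hx => ⟨L.H0_le hx, by
      obtain ⟨v, hv⟩ := hx; exact ⟨v.1, v.2, hv.symm⟩⟩⟩
  have hB : ((Finset.univ.filter fun x => x ∈ L.H).filter fun x => ¬ L.In0 x).card = 288 := by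
    have h1 := Finset.card_filter_add_card_filter_not (s := Finset.univ.filter fun x => x ∈ L.H) fun x => L.In0 x
    have h2 : (Finset.univ.filter fun x => x ∈ L.H).card = 576 := by
      rw [← L.hcard, Nat.card_eq_fintype_card, Fintype.card_subtype]
    omega
  rw [hA, hB]
  have hp := ompow_pair k
  rw [if_neg (show k ≠ 0 from sub_ne_zero.2 hk)] at hp
  simp only [nsmul_eq_mul]
  push_cast
  linear_combination -hp

/-- The pairs of conjugates of the involution with given product. -/
def Pairs (L : Loc G) (g : G) : Type u := {p : G × G // IsConj L.z p.1 ∧ IsConj L.z p.2 ∧ p.1 * p.2 = g}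

theorem pairs_count (h : L.Isolated m t P) {w : S24 × S24} (hk : lam w.1 ≠ lam w.2) :
    2 * Nat.card (Pairs L (L.Phi w)) =
      (Finset.univ.filter fun v : S24 × S24 => ∃ e d, Half e d v.1 w.1 ∧ Half e d v.2 w.2).card := by
  classical
  haveI : Finite (Pairs L (L.Phi w)) := Subtype.finite
  have := Fintype.ofFinite (Pairs L (L.Phi w))
  have hsq : ∀ {u : G}, IsConj L.z u → u * u = 1 ∧ u ≠ 1 := by
    intro u hu
    obtain ⟨g, rfl⟩ := isConj_iff.1 hu
    refine ⟨?_, fun e => L.z_ne (conj_eq_one_iff.1 e)⟩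
    calc g * L.z * g⁻¹ * (g * L.z * g⁻¹) = g * (L.z * L.z) * g⁻¹ := by group
      _ = 1 := by rw [L.zz, mul_one, mul_inv_cancel]
  have usq : ∀ a b : S24, L.f1 a * L.f2 b * t * (L.f1 a * L.f2 b * t) = L.Phi (a * sg a, b * sg b) := fun a b => by
    calc L.f1 a * L.f2 b * t * (L.f1 a * L.f2 b * t) = L.Phi (a, b) * (t * L.Phi (a, b) * t) := by
          rw [Phi_apply]; simp only [mul_assoc]
      _ = _ := by rw [tPhi h, ← map_mul]; rfl
  have uconj : ∀ a b : S24, L.f1 a * L.f2 b * t * L.Phi w * (L.f1 a * L.f2 b * t) =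
      L.Phi (a * sg w.1 * sg a, b * sg w.2 * sg b) := fun a b => by
    calc L.f1 a * L.f2 b * t * L.Phi w * (L.f1 a * L.f2 b * t)
        = L.Phi (a, b) * (t * L.Phi w * t) * (t * L.Phi (a, b) * t) := by
          rw [Phi_apply L (a, b)]; simp [mul_assoc, ← mul_assoc t t, h.tt]
      _ = _ := by rw [tPhi h, tPhi h, ← map_mul, ← map_mul]; rfl
  have hcond : ∀ a b : S24, (∃ e d, Half e d a w.1 ∧ Half e d b w.2) ↔
      L.f1 a * L.f2 b * t * (L.f1 a * L.f2 b * t) = 1 ∧
        L.f1 a * L.f2 b * t * L.Phi w * (L.f1 a * L.f2 b * t) = (L.Phi w)⁻¹ := fun a b => by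
    rw [usq, uconj, ← map_inv, show (1 : G) = L.Phi 1 from (map_one _).symm, L.Phi_eq, L.Phi_eq]
    constructor
    · rintro ⟨e, d, ⟨p1, p2⟩, q1, q2⟩
      refine ⟨?_, ?_⟩
      · cases e
        · exact Or.inl (Prod.ext p1 q1)
        · exact Or.inr (Prod.ext (by simpa using p1) (by simpa using q1))
      · cases d
        · exact Or.inl (Prod.ext (by simpa using p2) (by simpa using q2))
        · exact Or.inr (Prod.ext p2 q2)
    · rintro ⟨he | he, hd | hd⟩
      · exact ⟨false, false, ⟨congrArg Prod.fst he, by simpa using congrArg Prod.fst hd⟩,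
          ⟨congrArg Prod.snd he, by simpa using congrArg Prod.snd hd⟩⟩
      · exact ⟨false, true, ⟨congrArg Prod.fst he, congrArg Prod.fst hd⟩,
          ⟨congrArg Prod.snd he, congrArg Prod.snd hd⟩⟩
      · exact ⟨true, false, ⟨by simpa using congrArg Prod.fst he, by simpa using congrArg Prod.fst hd⟩,
          ⟨by simpa using congrArg Prod.snd he, by simpa using congrArg Prod.snd hd⟩⟩
      · exact ⟨true, true, ⟨by simpa using congrArg Prod.fst he, congrArg Prod.fst hd⟩,
          ⟨by simpa using congrArg Prod.snd he, congrArg Prod.snd hd⟩⟩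
  let f : {v : S24 × S24 // ∃ e d, Half e d v.1 w.1 ∧ Half e d v.2 w.2} → Pairs L (L.Phi w) := fun v => by
    refine ⟨(L.f1 v.1.1 * L.f2 v.1.2 * t, L.f1 v.1.1 * L.f2 v.1.2 * t * L.Phi w), ?_, ?_, ?_⟩
    · obtain ⟨h2, -⟩ := (hcond _ _).1 v.2
      exact one_class h h2 fun e => h.t0 ⟨_, _, (inv_eq_of_mul_eq_one_right e).symm.trans (L.pair_inv _ _)⟩
    · obtain ⟨h2, h3⟩ := (hcond _ _).1 v.2
      refine one_class h ?_ fun e => h.t0 ?_
      · rw [← mul_assoc, h3, inv_mul_cancel]
      · refine ⟨v.1.1⁻¹ * w.1⁻¹, v.1.2⁻¹ * w.2⁻¹, ?_⟩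
        rw [← L.pair_mul, ← L.pair_inv, ← L.pair_inv, eq_comm, ← Phi_apply L w]
        rw [mul_eq_one_iff_eq_inv] at e
        rw [← e]; group
    · show _ * (_ * L.Phi w) = L.Phi w
      rw [← mul_assoc, ((hcond _ _).1 v.2).1, one_mul]
  have hfib : ∀ y, (Finset.univ.filter fun v => f v = y).card = 2 := by
    rintro ⟨⟨u, v⟩, hu, hv, e⟩
    have e : u * v = L.Phi w := e
    obtain ⟨u2, -⟩ := hsq hu
    obtain ⟨v2, -⟩ := hsq hv
    have hv' : v = u * L.Phi w := by rw [← e, ← mul_assoc, u2, one_mul]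
    have hinv : u * L.Phi w * u = (L.Phi w)⁻¹ := eq_inv_of_mul_eq_one_left (by
      rw [hv'] at v2; rw [← v2]; simp only [mul_assoc])
    have huH := sing_inverted h hk u2 hinv
    have hu0 : ¬ L.In0 u := by
      rintro ⟨a, b, rfl⟩
      refine hk ?_
      have e2 : L.Phi ((a, b) * w * (a, b)) = L.Phi w⁻¹ := by
        rw [map_mul, map_mul, map_inv]; exact hinv
      have h22 : L.Phi ((a, b) * (a, b)) = L.Phi 1 := by rw [map_mul, map_one]; exact u2
      have k1 := congrArg L.kval e2
      have k2 := congrArg L.kval h22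
      rw [kval_Phi, kval_Phi] at k1 k2
      simp only [Prod.fst_mul, Prod.snd_mul, Prod.fst_inv, Prod.snd_inv, Prod.fst_one, Prod.snd_one, S24.lam_facts.1,
        S24.lam_facts.2.2.2.2.2.1, S24.lam_facts.2.2.2.2.1 1 (one_mul 1)] at k1 k2
      have key : ∀ a b p q : ZMod 3, a + p + a - (b + q + b) = -p - -q → a + a - (b + b) = 0 - 0 → p = q := by decide
      exact key _ _ _ _ k1 k2
    obtain ⟨a, b, rfl⟩ := L.out_form h.tH h.t0 huH hu0
    have hm : ∀ c d : S24, L.f1 c * L.f2 d = L.f1 a * L.f2 b → ∃ e d', Half e d' c w.1 ∧ Half e d' d w.2 :=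
      fun c d hcd => (hcond c d).2 (by rw [hcd]; exact ⟨u2, hinv⟩)
    rw [Finset.card_eq_two]
    refine ⟨⟨(a, b), hm a b rfl⟩, ⟨(neg1 * a, neg1 * b), hm _ _ (L.neg_pair a b)⟩,
      fun e => neg_ne (a, b) (congrArg Subtype.val e), ?_⟩
    ext x
    simp only [Finset.mem_filter, Finset.mem_univ, true_and, Finset.mem_insert, Finset.mem_singleton]
    have hx : f x = ⟨(L.f1 a * L.f2 b * t, v), hu, hv, e⟩ ↔ L.Phi x.1 = L.Phi (a, b) := by
      constructor
      · intro he
        exact mul_right_cancel (congrArg (fun z => z.1.1) he)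
      · intro he
        refine Subtype.ext (Prod.ext (congrArg (· * t) he) ?_)
        show L.Phi x.1 * t * L.Phi w = v
        rw [he, hv']
        rfl
    rw [hx, L.Phi_eq]
    exact or_congr ⟨fun h => Subtype.ext h, fun h => congrArg Subtype.val h⟩
      ⟨fun h => Subtype.ext h, fun h => congrArg Subtype.val h⟩
  rw [← Fintype.card_subtype, ← Finset.card_univ, Finset.card_eq_sum_card_fiberwise (f := f) (t := Finset.univ)
    (fun _ _ => Finset.mem_univ _), Finset.sum_congr rfl fun y _ => hfib y, Finset.sum_const, Finset.card_univ,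
    Nat.card_eq_fintype_card, smul_eq_mul, mul_comm]

theorem pair_total (h : L.Isolated m t P) :
    ∑ w : S24 × S24, (if lam w.1 = lam w.2 then 0 else 2 * Nat.card (Pairs L (L.Phi w))) = 13824 := by
  classical
  rw [← S24.score_sum]
  have e1 : ∀ w : S24 × S24, (if lam w.1 = lam w.2 then 0 else 2 * Nat.card (Pairs L (L.Phi w))) =
      ∑ v : S24 × S24, ∑ e : Bool, ∑ d : Bool,
        (if lam w.1 = lam w.2 then 0 else (if Half e d v.1 w.1 then 1 else 0) * (if Half e d v.2 w.2 then 1 else 0)) := by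
    intro w
    split_ifs with hk
    · simp
    rw [pairs_count h hk, Finset.card_filter]
    refine Finset.sum_congr rfl fun v _ => ?_
    split_ifs with hex
    · obtain ⟨e, d, ha, hb⟩ := hex
      rw [Finset.sum_eq_single e (fun e' _ hne => Finset.sum_eq_zero fun d' _ => ?_)
        (fun hne => absurd (Finset.mem_univ _) hne), Finset.sum_eq_single d (fun d' _ hne => ?_)
        (fun hne => absurd (Finset.mem_univ _) hne), if_pos ha, if_pos hb]
      · rw [if_neg fun h' => hne (S24.half_unique h' ha).2, zero_mul]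
      · rw [if_neg fun h' => hne (S24.half_unique h' ha).1, zero_mul]
    · symm
      refine Finset.sum_eq_zero fun e _ => Finset.sum_eq_zero fun d _ => ?_
      by_cases ha : Half e d v.1 w.1
      · rw [if_neg fun hb => hex ⟨e, d, ha, hb⟩, mul_zero]
      · rw [if_neg ha, zero_mul]
  rw [Finset.sum_congr rfl fun w _ => e1 w]
  rw [Finset.sum_congr rfl fun w _ => Finset.sum_comm, Finset.sum_comm]
  refine Finset.sum_congr rfl fun e _ => ?_
  rw [Finset.sum_congr rfl fun w _ => Finset.sum_comm, Finset.sum_comm]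
  refine Finset.sum_congr rfl fun d _ => ?_
  exact pair_split (fun u => if Half e d u.1 u.2 then 1 else 0) (fun i => score e d i) fun i => by
    rw [score, Finset.card_filter]
    refine Finset.sum_congr rfl fun u _ => ?_
    split_ifs <;> simp_all

theorem mult_eq (h : L.Isolated m t P) [Fintype L.H0] {χ : G → ℂ} (hχ : Cfsg.IsClassFunction G χ) {n : ℤ}
    (hn : Cfsg.classInner (theta L) χ = n) : ∑ x : L.H0, L.wgt x * conj (χ x) = 192 * n := by
  rw [theta, frobenius_reciprocity _ _ hχ, classInner_def, L.card_H0] at hn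
  have s1 : ∑ x : L.H0, L.psi x * conj (χ x) = 288 * n := by
    rw [← hn]; push_cast; ring
  have htn : ∀ x ∈ L.H0, t * x * t ∈ L.H0 := by
    rintro _ ⟨w, rfl⟩
    exact ⟨_, (tPhi h w).symm⟩
  let φ : L.H0 ≃ L.H0 :=
    { toFun := fun x => ⟨t * x * t, htn x x.2⟩
      invFun := fun x => ⟨t * x * t, htn x x.2⟩
      left_inv := fun x => Subtype.ext (by simp [mul_assoc, ← mul_assoc t t, h.tt])
      right_inv := fun x => Subtype.ext (by simp [mul_assoc, ← mul_assoc t t, h.tt]) }
  have hneg : ∀ x : L.H0, L.kval (φ x) = -L.kval x := by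
    rintro ⟨_, w, rfl⟩
    show L.kval (t * L.Phi w * t) = _
    rw [tPhi h, kval_Phi, kval_Phi, S24.lam_facts.2.2.1, S24.lam_facts.2.2.1]; ring
  have s2 : ∑ x : L.H0, (1 - ompow (-L.kval x)) * conj (χ x) = 288 * n := by
    rw [← s1]
    refine Fintype.sum_equiv φ _ _ fun x => ?_
    show (1 - ompow (-L.kval x)) * conj (χ x) = (1 - ompow (L.kval (φ x))) * conj (χ (t * x * t))
    have := hχ (x : G) t
    rw [inv_eq_of_mul_eq_one_right h.tt] at this
    rw [hneg, this]
  have e : ∀ x : L.H0, L.psi x * conj (χ x) + (1 - ompow (-L.kval x)) * conj (χ x) = 3 * (L.wgt x * conj (χ x)) := by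
    intro x
    have hp := ompow_pair (L.kval (x : G))
    by_cases h0 : L.kval (x : G) = 0
    · simp [psi, wgt, h0, ompow_zero]
    · rw [if_neg h0] at hp
      simp only [psi, wgt, if_neg h0]
      linear_combination -(conj (χ (x : G))) * hp
  have s3 : 3 * ∑ x : L.H0, L.wgt x * conj (χ x) = 576 * n := by
    rw [Finset.mul_sum, ← Finset.sum_congr rfl fun x _ => e x, Finset.sum_add_distrib, s1, s2]; ring
  linear_combination s3 / 3

/-- The equation between the number of involutions and the degree of the exceptional character. -/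
theorem equation (h : L.Isolated m t P) :
    ∃ d x : ℤ, d ≠ 0 ∧ d + 1 ≠ 0 ∧ x * x + (1 + x) * (1 + x) ≤ 575 ∧
      (L.H.index : ℤ) * ((d - x) * (d - x)) = 10368 * (d * (d + 1)) := by
  classical
  have := Fintype.ofFinite L.H0
  have hgen : Cfsg.IsGeneralizedCharacter G (theta L) := IsGeneralizedCharacter.indFun L.gen_psi
  choose n hn using fun χ : Cfsg.IrrCharacter G => IsGeneralizedCharacter.exists_mult hgen χ.2
  have hmult : ∀ χ : Cfsg.IrrCharacter G, ∑ x : L.H0, L.wgt x * conj ((χ : G → ℂ) x) = 192 * n χ :=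
    fun χ => mult_eq h (isClassFunction_irr χ) (hn χ)
  have hexp : ∀ g, theta L g = ∑ χ : Cfsg.IrrCharacter G, (n χ : ℂ) * (χ : G → ℂ) g := fun g => by
    rw [classFunction_expand_apply (show Cfsg.IsClassFunction G (theta L) from isClassFunction_indFun _ _) g]
    exact Finset.sum_congr rfl fun χ _ => by rw [← hn]
  have hn1 : n (principal G) = 1 := by
    have e := hmult (principal G)
    have : ∑ x : L.H0, L.wgt x * conj ((principal G : G → ℂ) x) = 192 := by
      rw [← L.sum_wgt]
      exact Finset.sum_congr rfl fun x _ => by simp [principal]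
    rw [this] at e
    have : (192 : ℂ) * (n (principal G) : ℂ) = 192 * ((1 : ℤ) : ℂ) := by rw [← e]; simp
    exact_mod_cast mul_left_cancel₀ (by norm_num) this
  have hnorm : ∑ χ, n χ * n χ = 3 := by
    have e : ∑ x : L.H0, L.wgt x * conj (theta L x) = 192 * 3 := by
      rw [show (192 : ℂ) * 3 = ∑ x : L.H0, 3 * L.wgt x by rw [← Finset.mul_sum, L.sum_wgt]; ring]
      refine Finset.sum_congr rfl fun x _ => ?_
      obtain ⟨w, hw⟩ := x.2
      by_cases h0 : L.kval (x : G) = 0
      · simp [wgt, h0]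
      · have hk : lam w.1 ≠ lam w.2 := fun e => h0 (by rw [← hw, kval_Phi, e, sub_self])
        rw [← hw, theta_val h hk]
        simp [wgt, map_ofNat, mul_comm]
    simp only [hexp, map_sum, map_mul, Finset.mul_sum] at e
    rw [Finset.sum_comm, Finset.sum_congr rfl (g := fun χ => (192 : ℂ) * ((n χ * n χ : ℤ) : ℂ)) fun χ _ => by
      rw [Finset.sum_congr rfl (g := fun x : L.H0 => (n χ : ℂ) * (L.wgt x * conj ((χ : G → ℂ) x))) fun x _ => by
        rw [map_intCast]; ring, ← Finset.mul_sum, hmult]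
      push_cast; ring, ← Finset.mul_sum, ← Int.cast_sum] at e
    have := mul_left_cancel₀ (show (192 : ℂ) ≠ 0 by norm_num) e
    exact_mod_cast this
  obtain ⟨a, b, hao, hbo, hab, ha1, hb1, hrest⟩ := three_terms n (principal G) hn1 hnorm
  have hsplit : ∀ F : Cfsg.IrrCharacter G → ℂ,
      ∑ χ, (n χ : ℂ) * F χ = F (principal G) + (n a : ℂ) * F a + (n b : ℂ) * F b := fun F => by
    rw [← Finset.sum_subset (Finset.subset_univ {principal G, a, b}) fun χ _ hχ => by
      simp only [Finset.mem_insert, Finset.mem_singleton, not_or] at hχ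
      rw [hrest χ hχ.1 hχ.2.1 hχ.2.2]; simp,
      Finset.sum_insert (by simp [hao.symm, hbo.symm]), Finset.sum_pair hab, hn1]
    push_cast; ring
  have hz2 : orderOf L.z = 2 := Cfsg.Lib.InvolCalc.order_two_of_mul_self L.zz L.z_ne
  obtain ⟨va, hva, -⟩ := Cfsg.Agent.S0944.result a L.z hz2
  obtain ⟨vb, hvb, -⟩ := Cfsg.Agent.S0944.result b L.z hz2
  set d := n a * (deg (a : G → ℂ) : ℤ) with hd
  set x := n a * va with hx
  have hpa := deg_irr_pos a
  have hpb := deg_irr_pos b
  have hdeg : d + n b * (deg (b : G → ℂ) : ℤ) = -1 := by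
    have e := hexp 1
    rw [theta_one, hsplit (fun χ => (χ : G → ℂ) 1), irr_apply_one_eq_deg a, irr_apply_one_eq_deg b,
      show (principal G : G → ℂ) 1 = 1 from rfl] at e
    have e' : ((d + n b * (deg (b : G → ℂ) : ℤ) : ℤ) : ℂ) = ((-1 : ℤ) : ℂ) := by
      rw [hd]; push_cast; linear_combination -e
    exact_mod_cast e'
  have hzval : x + n b * vb = -1 := by
    have e := hexp L.z
    rw [theta_z h, hsplit (fun χ => (χ : G → ℂ) L.z), hva, hvb, show (principal G : G → ℂ) L.z = 1 from rfl] at e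
    have e' : ((x + n b * vb : ℤ) : ℂ) = ((-1 : ℤ) : ℂ) := by rw [hx]; push_cast; linear_combination -e
    exact_mod_cast e'
  have hna0 : n a ≠ 0 := fun e => by rw [e] at ha1; simp at ha1
  have hnb0 : n b ≠ 0 := fun e => by rw [e] at hb1; simp at hb1
  have hd0 : d ≠ 0 := mul_ne_zero hna0 (by exact_mod_cast hpa.ne')
  have hd1 : d + 1 ≠ 0 := fun e => by
    have : n b * (deg (b : G → ℂ) : ℤ) = 0 := by linarith
    exact mul_ne_zero hnb0 (by exact_mod_cast hpb.ne') this
  refine ⟨d, x, hd0, hd1, ?_, ?_⟩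
  · have e := sum_norm_sq_irr (G := G) L.z
    rw [← L.cent, L.hcard] at e
    have hle : ∑ χ ∈ ({principal G, a, b} : Finset (Cfsg.IrrCharacter G)), ‖(χ : G → ℂ) L.z‖ ^ 2 ≤
        (576 : ℕ) := e ▸ Finset.sum_le_sum_of_subset_of_nonneg (Finset.subset_univ _) fun _ _ _ => sq_nonneg _
    rw [Finset.sum_insert (by simp [hao.symm, hbo.symm]), Finset.sum_pair hab, hva, hvb,
      show (principal G : G → ℂ) L.z = 1 from rfl, norm_one, Complex.norm_intCast, Complex.norm_intCast, sq_abs,
      sq_abs] at hle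
    have hle' : (1 : ℤ) + (va * va + vb * vb) ≤ 576 := by
      have : ((1 + (va * va + vb * vb) : ℤ) : ℝ) ≤ ((576 : ℤ) : ℝ) := by push_cast; push_cast at hle; linarith
      exact_mod_cast this
    have e1 : x * x = va * va := by rw [hx]; linear_combination (va * va) * ha1
    have e2 : (1 + x) * (1 + x) = vb * vb := by
      rw [show 1 + x = -(n b * vb) by linarith]; linear_combination (vb * vb) * hb1
    omega
  · -- counting pairs of involutions
    set T : ℂ := ∑ χ : Cfsg.IrrCharacter G,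
      (n χ : ℂ) * ((χ : G → ℂ) L.z * (χ : G → ℂ) L.z / (χ : G → ℂ) 1) with hT
    have hG : (Nat.card G : ℂ) = 576 * (L.H.index : ℂ) := by
      rw [← L.H.card_mul_index, L.hcard]; push_cast; rfl
    have hcl : (Nat.card {y : G // IsConj L.z y} : ℂ) = (L.H.index : ℂ) := by
      rw [card_class, ← L.cent]
    have hpair : ∀ g : G, (Nat.card (Pairs L g) : ℂ) = (L.H.index : ℂ) / 576 *
        ∑ χ : Cfsg.IrrCharacter G, (χ : G → ℂ) L.z * (χ : G → ℂ) L.z * conj ((χ : G → ℂ) g) / (χ : G → ℂ) 1 := by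
      intro g
      have hi : (L.H.index : ℂ) ≠ 0 := Nat.cast_ne_zero.2 Subgroup.index_ne_zero_of_finite
      rw [show Nat.card (Pairs L g) = Nat.card {p : G × G // IsConj L.z p.1 ∧ IsConj L.z p.2 ∧ p.1 * p.2 = g} from rfl,
        class_mult_formula, hcl, hG]
      field_simp
    have hsum : ∑ x : L.H0, L.wgt x * (Nat.card (Pairs L (x : G)) : ℂ) = 3456 := by
      have e := L.sum_H0 fun g => L.wgt g * (Nat.card (Pairs L g) : ℂ)
      have e2 := congrArg (fun k : ℕ => (k : ℂ)) (pair_total h)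
      simp only [Nat.cast_sum, Nat.cast_ite, Nat.cast_zero, Nat.cast_mul, Nat.cast_ofNat] at e2
      have e3 : ∑ w, (if lam w.1 = lam w.2 then (0 : ℂ) else 2 * (Nat.card (Pairs L (L.Phi w)) : ℂ)) =
          2 * ∑ w, L.wgt (L.Phi w) * (Nat.card (Pairs L (L.Phi w)) : ℂ) := by
        rw [Finset.mul_sum]
        refine Finset.sum_congr rfl fun w _ => ?_
        simp only [wgt, kval_Phi, sub_eq_zero]
        split_ifs <;> ring
      linear_combination e / 2 + e2 / 4 - e3 / 4
    have key : (L.H.index : ℂ) * T = 10368 := by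
      have e : ∑ x : L.H0, L.wgt x * (Nat.card (Pairs L (x : G)) : ℂ) = (L.H.index : ℂ) / 576 * (192 * T) := by
        simp only [hpair, hT, Finset.mul_sum]
        rw [Finset.sum_comm]
        refine Finset.sum_congr rfl fun χ _ => ?_
        have hm := hmult χ
        rw [Finset.sum_congr rfl (g := fun x : L.H0 => (L.H.index : ℂ) / 576 *
          ((χ : G → ℂ) L.z * (χ : G → ℂ) L.z / (χ : G → ℂ) 1) * (L.wgt x * conj ((χ : G → ℂ) x))) fun x _ => by ring,
          ← Finset.mul_sum, hm]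
        ring
      rw [hsum] at e
      linear_combination -3 * e
    rw [hT, hsplit (fun χ => (χ : G → ℂ) L.z * (χ : G → ℂ) L.z / (χ : G → ℂ) 1), hva, hvb,
      irr_apply_one_eq_deg a, irr_apply_one_eq_deg b, show (principal G : G → ℂ) L.z = 1 from rfl,
      show (principal G : G → ℂ) 1 = 1 from rfl] at key
    have hA : (n a : ℂ) * ((va : ℂ) * va / (deg (a : G → ℂ) : ℂ)) = ((x : ℂ) * x) / (d : ℂ) := by
      have h1 : (n a : ℂ) * n a = 1 := by exact_mod_cast ha1
      have : (n a : ℂ) ≠ 0 := Int.cast_ne_zero.2 hna0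
      rw [hd, hx]; push_cast; field_simp
    have hB : (n b : ℂ) * ((vb : ℂ) * vb / (deg (b : G → ℂ) : ℂ)) = -(((1 + x : ℤ) : ℂ) * (1 + x : ℤ)) / ((d + 1 : ℤ) : ℂ) := by
      rw [show (1 + x : ℤ) = -(n b * vb) by linarith, show (d + 1 : ℤ) = -(n b * (deg (b : G → ℂ) : ℤ)) by linarith]
      have : (n b : ℂ) ≠ 0 := Int.cast_ne_zero.2 hnb0
      push_cast; field_simp
    rw [hA, hB] at key
    have hd0' : (d : ℂ) ≠ 0 := Int.cast_ne_zero.2 hd0
    have hd1' : ((d + 1 : ℤ) : ℂ) ≠ 0 := Int.cast_ne_zero.2 hd1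
    push_cast at key hd1'
    field_simp at key
    have : (((L.H.index : ℤ) * ((d - x) * (d - x)) : ℤ) : ℂ) = ((10368 * (d * (d + 1)) : ℤ) : ℂ) := by
      push_cast; linear_combination key
    exact_mod_cast this

end Loc

end Cfsg.Lib.GTwoRecog
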