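import Cfsg.Agent.GTwoRecog.ExcTable

/-!
Fusion when the centralisers of the elements of order three lie in the centraliser of the involution.
-/

set_option autoImplicit false
set_option maxHeartbeats 800000

namespace Cfsg.Lib.GTwoRecog

open Subgroup
open S24 (neg1 inQ cu cl sg cw C3 lam)
open Cfsg.Lib.InvolCalc (order_two_of_mul_self)

variable {G : Type*} [Group G]

namespace Loc

open HLoc

/-- The frame with the local hypothesis on the elements of order three. -/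
structure Isolated (L : Loc G) (m t P : G) : Prop extends L.Letters m t P where
  le3 : ∀ x ∈ L.H, x * x * x = 1 → x ≠ 1 → centralizer ({x} : Set G) ≤ L.H

variable {L : Loc G} [Finite G] {m t P : G}

theorem unique_invol (h : L.Isolated m t P) {x : G} (hx : x ∈ L.H) (h3 : x * x * x = 1) (hx1 : x ≠ 1) {w : G}
    (hw : w * w = 1) (hc : Commute w x) : w = 1 ∨ w = L.z := by
  have hwH : w ∈ L.H := h.le3 x hx h3 hx1 (mem_centralizer_singleton_iff.2 hc.eq)
  obtain ⟨u, hu, p, q, hp, hq, e⟩ := three_frame h.toLetters hx h3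
  have hc' : Commute (u * w * u⁻¹) (L.f1 p * L.f2 q) := e ▸ (Commute.conj_iff u).2 hc
  have hH : u * w * u⁻¹ ∈ L.H := L.H.mul_mem (L.H.mul_mem hu hwH) (L.H.inv_mem hu)
  have h2 : u * w * u⁻¹ * (u * w * u⁻¹) = 1 := by
    calc u * w * u⁻¹ * (u * w * u⁻¹) = u * (w * w) * u⁻¹ := by group
      _ = 1 := by rw [hw, mul_one, mul_inv_cancel]
  have key : u * w * u⁻¹ = 1 ∨ u * w * u⁻¹ = L.z := by
    by_cases hp1 : p = 1
    · subst hp1
      rw [map_one, one_mul] at hc' e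
      refine invol_CA (L := L.swap.toHLoc) h.toLetters.swap.toStd.toH hH (L.swap.mem_CA.2 ?_) h2
      rcases hq with rfl | rfl | rfl
      · exact absurd (conj_eq_one_iff.1 (e.trans (map_one _))) hx1
      · exact hc'.eq
      · have := hc'.inv_right
        rw [map_inv, inv_inv] at this
        exact this.eq
    · by_cases hq1 : q = 1
      · subst hq1
        rw [map_one, mul_one] at hc'
        refine invol_CA h.toStd.toH hH (L.mem_CA.2 ?_) h2
        rcases hp with rfl | rfl | rfl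
        · exact absurd rfl hp1
        · exact hc'.eq
        · have := hc'.inv_right
          rw [map_inv, inv_inv] at this
          exact this.eq
      · exact invol_diag h.toStd hp hp1 hq hq1 hH hc' h2
  rcases key with k | k
  · exact Or.inl (conj_eq_one_iff.1 k)
  · right
    calc w = u⁻¹ * (u * w * u⁻¹) * u := by group
      _ = L.z := by rw [k, mul_assoc, ← L.commz.1 hu, inv_mul_cancel_left]

/-- An element moving a nontrivial element of order three inside the centraliser lies in it. -/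
theorem three_ti (h : L.Isolated m t P) {x g : G} (hx : x ∈ L.H) (h3 : x * x * x = 1) (hx1 : x ≠ 1)
    (hg : g * x * g⁻¹ ∈ L.H) : g ∈ L.H := by
  have hy3 : g * x * g⁻¹ * (g * x * g⁻¹) * (g * x * g⁻¹) = 1 := by
    calc g * x * g⁻¹ * (g * x * g⁻¹) * (g * x * g⁻¹) = g * (x * x * x) * g⁻¹ := by group
      _ = 1 := by rw [h3, mul_one, mul_inv_cancel]
  have hw : g * L.z * g⁻¹ * (g * L.z * g⁻¹) = 1 := by
    calc g * L.z * g⁻¹ * (g * L.z * g⁻¹) = g * (L.z * L.z) * g⁻¹ := by group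
      _ = 1 := by rw [L.zz, mul_one, mul_inv_cancel]
  have hc : Commute (g * L.z * g⁻¹) (g * x * g⁻¹) := (Commute.conj_iff g).2 (L.commz.1 hx).symm
  rcases unique_invol h hg hy3 (fun e => hx1 (conj_eq_one_iff.1 e)) hw hc with e | e
  · exact absurd (conj_eq_one_iff.1 e) L.z_ne
  · exact L.commz.2 (mul_inv_eq_iff_eq_mul.1 e)

/-- A pair with unequal values has a power of order three. -/
theorem three_power (L : Loc G) {p q : S24} (hk : lam p ≠ lam q) :
    ∃ x : G, x ∈ L.H ∧ x * x * x = 1 ∧ x ≠ 1 ∧ x = (L.f1 p * L.f2 q) ^ 4 := by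
  have e : (L.f1 p * L.f2 q) ^ 4 = L.f1 (p * p * (p * p)) * L.f2 (q * q * (q * q)) := by
    rw [show (L.f1 p * L.f2 q) ^ 4 = L.f1 p * L.f2 q * (L.f1 p * L.f2 q) * (L.f1 p * L.f2 q * (L.f1 p * L.f2 q)) by
      simp [pow_succ, mul_assoc], L.pair_mul, L.pair_mul]
  refine ⟨_, L.mem0 ⟨_, _, e⟩, ?_, ?_, rfl⟩
  · rw [e, L.pair_mul, L.pair_mul, (S24.lam_facts.2.2.2.2.2.2 p).2, (S24.lam_facts.2.2.2.2.2.2 q).2, map_one,
      map_one, mul_one]
  · rw [e, show (1 : G) = L.f1 1 * L.f2 1 by simp]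
    intro h1
    refine hk ?_
    rw [← (S24.lam_facts.2.2.2.2.2.2 p).1, ← (S24.lam_facts.2.2.2.2.2.2 q).1]
    have l1 : lam (1 : S24) = 0 := S24.lam_facts.2.2.2.2.1 1 (one_mul 1)
    rcases L.pair_inj h1 with ⟨a, b⟩ | ⟨a, b⟩ <;> rw [a, b]

theorem sing_ti (h : L.Isolated m t P) {p q : S24} (hk : lam p ≠ lam q) {g : G}
    (hg : g * (L.f1 p * L.f2 q) * g⁻¹ ∈ L.H) : g ∈ L.H := by
  obtain ⟨x, hx, h3, hx1, e⟩ := three_power L hk
  refine three_ti h hx h3 hx1 ?_
  rw [e, ← conj_pow]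
  exact pow_mem hg 4

theorem sing_inverted (h : L.Isolated m t P) {p q : S24} (hk : lam p ≠ lam q) {u : G} (hu : u * u = 1)
    (hinv : u * (L.f1 p * L.f2 q) * u = (L.f1 p * L.f2 q)⁻¹) : u ∈ L.H := by
  refine sing_ti h hk ?_
  rw [inv_eq_of_mul_eq_one_right hu, hinv]
  exact L.H.inv_mem (L.mem0 ⟨p, q, rfl⟩)

theorem conj_t (h : L.Isolated m t P) : IsConj L.z t := isConj_iff.2 ⟨P, Pz h.toLetters.toH⟩

theorem invol_H (h : L.Isolated m t P) {u : G} (hu : u ∈ L.H) (h2 : u * u = 1) (hu1 : u ≠ 1) : IsConj L.z u := by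
  by_cases h0 : L.In0 u
  · obtain ⟨p, q, rfl⟩ := h0
    rw [L.pair_mul, show (1 : G) = L.f1 1 * L.f2 1 by simp] at h2
    rcases L.pair_inj h2 with ⟨hp, hq⟩ | ⟨hp, hq⟩
    · rcases S24.quarter_facts.2.1 p hp with rfl | rfl <;> rcases S24.quarter_facts.2.1 q hq with rfl | rfl
      · exact absurd (by simp) hu1
      · rw [map_one, one_mul, L.z2]
      · rw [map_one, mul_one, L.z1]
      · exact absurd (by rw [L.z1, L.z2, L.zz]) hu1
    · obtain ⟨c, hc⟩ := S24.invol_table.2 p (hp.trans (mul_one _))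
      obtain ⟨d, hd⟩ := S24.invol_table.2 q (hq.trans (mul_one _))
      refine (isConj_iff.2 ⟨m, rfl⟩ : IsConj L.z (m * L.z * m⁻¹)).trans (isConj_iff.2 ⟨(L.f1 c * L.f2 d)⁻¹, ?_⟩)
      rw [h.e0, show L.f1 cw * L.f2 cw = L.f1 (c * p * c⁻¹) * L.f2 (d * q * d⁻¹) by rw [hc, hd], L.pair_inv,
        L.pair_mul, L.pair_inv, L.pair_mul]
      congr 2 <;> group
  · obtain ⟨a, b, rfl⟩ := L.out_form h.tH h.t0 hu h0
    have e : L.f1 (a * sg a) * L.f2 (b * sg b) = L.f1 1 * L.f2 1 := by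
      rw [map_one, map_one, mul_one, ← h2]
      calc L.f1 (a * sg a) * L.f2 (b * sg b) = L.f1 a * L.f2 b * (t * L.f1 a * t * (t * L.f2 b * t)) := by
            rw [h.t1, h.t2, L.pair_mul]
        _ = _ := by simp [mul_assoc, ← mul_assoc t t, h.tt]
    refine (conj_t h).trans ?_
    obtain ⟨c, d, hcd⟩ := S24.invol_table.1 a b (by
      rcases L.pair_inj e with ⟨x, y⟩ | ⟨x, y⟩
      exacts [Or.inl ⟨x, y⟩, Or.inr ⟨x.trans (mul_one _), y.trans (mul_one _)⟩])
    refine isConj_iff.2 ⟨L.f1 c * L.f2 d, ?_⟩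
    have e2 : L.f1 c * L.f2 d * t * (L.f1 c * L.f2 d)⁻¹ = L.f1 (c * sg c⁻¹) * L.f2 (d * sg d⁻¹) * t := by
      rw [L.pair_inv]
      calc L.f1 c * L.f2 d * t * (L.f1 c⁻¹ * L.f2 d⁻¹) = L.f1 c * L.f2 d * (t * L.f1 c⁻¹ * t * (t * L.f2 d⁻¹ * t)) * t := by
            simp [mul_assoc, ← mul_assoc t t, h.tt]
        _ = _ := by rw [h.t1, h.t2, L.pair_mul]
    rw [e2]
    rcases hcd with ⟨x, y⟩ | ⟨x, y⟩ <;> rw [x, y]
    rw [L.neg_pair]

theorem Q_central (h : L.Isolated m t P) {y : G} (hy : ∀ q ∈ L.Q, Commute y q) : y = 1 ∨ y = L.z := by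
  have hyH : y ∈ L.H := L.commz.2 (hy _ L.z_mem_Q).eq
  have hq1 : ∀ q, inQ q → L.f1 q ∈ L.Q := fun q hq => ⟨q, 1, hq, S24.local_facts.2.2.1, by simp⟩
  have hq2 : ∀ q, inQ q → L.f2 q ∈ L.Q := fun q hq => ⟨1, q, S24.local_facts.2.2.1, hq, by simp⟩
  have fix1 : ∀ q, inQ q → y * L.f1 q * y⁻¹ = L.f1 q := fun q hq => by
    rw [(hy _ (hq1 q hq)).eq, mul_inv_cancel_right]
  have fix2 : ∀ q, inQ q → y * L.f2 q * y⁻¹ = L.f2 q := fun q hq => by
    rw [(hy _ (hq2 q hq)).eq, mul_inv_cancel_right]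
  by_cases h0 : L.In0 y
  · obtain ⟨a, b, rfl⟩ := h0
    have ha : a = 1 ∨ a = neg1 := S24.cent_facts.2.2.1 a fun q hq => by
      have e : L.f1 a * L.f1 q * (L.f1 a)⁻¹ = L.f1 q := by
        conv_rhs => rw [← fix1 q hq]
        rw [mul_inv_rev, mul_assoc (L.f1 a) (L.f2 b) (L.f1 q), ← (L.comm q b).eq]
        group
      rw [← map_inv, ← map_mul, ← map_mul] at e
      exact (mul_inv_eq_iff_eq_mul.1 (L.inj1 e)).symm
    have hb : b = 1 ∨ b = neg1 := S24.cent_facts.2.2.1 b fun q hq => by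
      have e : L.f2 b * L.f2 q * (L.f2 b)⁻¹ = L.f2 q := by
        have hc := (L.comm a (b * q * b⁻¹)).eq
        rw [map_mul, map_mul, map_inv] at hc
        conv_rhs => rw [← fix2 q hq]
        calc L.f2 b * L.f2 q * (L.f2 b)⁻¹ = L.f1 a * (L.f2 b * L.f2 q * (L.f2 b)⁻¹) * (L.f1 a)⁻¹ := by
              rw [hc, mul_inv_cancel_right]
          _ = _ := by group
      rw [← map_inv, ← map_mul, ← map_mul] at e
      exact (mul_inv_eq_iff_eq_mul.1 (L.inj2 e)).symm
    rcases ha with rfl | rfl <;> rcases hb with rfl | rfl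
    · left; simp
    · right; rw [map_one, L.z2, one_mul]
    · right; rw [map_one, L.z1, mul_one]
    · left; rw [L.z1, L.z2, L.zz]
  · exfalso
    obtain ⟨a, b, rfl⟩ := L.out_form h.tH h.t0 hyH h0
    refine S24.no_outer_central a fun q hq => L.inj1 ?_
    have hti := inv_eq_of_mul_eq_one_right h.tt
    have := fix1 q hq
    rw [map_mul, map_mul, map_inv, ← h.t1]
    have hc := L.comm (sg q) b
    rw [← h.t1] at hc
    conv_rhs => rw [← this]
    calc L.f1 a * (t * L.f1 q * t) * (L.f1 a)⁻¹ = L.f1 a * (L.f2 b * (t * L.f1 q * t) * (L.f2 b)⁻¹) * (L.f1 a)⁻¹ := by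
          rw [← hc.eq, mul_inv_cancel_right]
      _ = L.f1 a * L.f2 b * t * L.f1 q * (L.f1 a * L.f2 b * t)⁻¹ := by simp only [mul_inv_rev, hti, mul_assoc]

theorem sylow_two_in (h : L.Isolated m t P) :
    ∃ S : Sylow 2 G, (S : Subgroup G) ≤ L.H ∧ Nat.card (S : Subgroup G) = 64 := by
  classical
  haveI : Fact (Nat.Prime 2) := ⟨Nat.prime_two⟩
  haveI : (L.Q.subgroupOf L.H).Normal := ⟨fun q hq g => mem_subgroupOf.2 (L.conjQ g.2 (mem_subgroupOf.1 hq))⟩
  have hQp : IsPGroup 2 (L.Q.subgroupOf L.H) := fun q => ⟨2, Subtype.ext (Subtype.ext (by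
    have := L.Q_pow (mem_subgroupOf.1 q.2)
    push_cast
    simpa [pow_succ, mul_assoc] using this))⟩
  obtain ⟨T⟩ : Nonempty (Sylow 2 L.H) := inferInstance
  have hQT : L.Q.subgroupOf L.H ≤ (T : Subgroup L.H) := by
    have hs : IsPGroup 2 ↥(L.Q.subgroupOf L.H ⊔ (T : Subgroup L.H)) := hQp.to_sup_of_normal_left T.2
    exact le_sup_left.trans (T.3 hs le_sup_right).le
  set S0 := (T : Subgroup L.H).map L.H.subtype with hS0
  have hp : IsPGroup 2 S0 := T.2.map _
  have hcard : Nat.card S0 = 64 := by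
    rw [hS0, Subgroup.card_map_of_injective L.H.subtype_injective, T.card_eq_multiplicity, L.hcard]
    rw [show (576 : ℕ).factorization 2 = 6 by
      rw [Nat.factorization_def _ Nat.prime_two, show (576 : ℕ) = 2 ^ 6 * 9 by norm_num]
      haveI := Fact.mk Nat.prime_two
      rw [padicValNat.mul (by norm_num) (by norm_num), padicValNat.prime_pow,
        padicValNat.eq_zero_of_not_dvd (by norm_num)]]
    norm_num
  have hS0H : S0 ≤ L.H := Subgroup.map_subtype_le _
  have hQS : L.Q ≤ S0 := fun q hq => ⟨⟨q, L.Q_le hq⟩, hQT (mem_subgroupOf.2 hq), rfl⟩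
  have hN : normalizer (S0 : Set G) ≤ L.H := fun g hg => by
    have hzS : ∀ s ∈ S0, Commute L.z s := fun s hs => (L.commz.1 (hS0H hs)).symm
    have hc : ∀ q ∈ L.Q, Commute (g * L.z * g⁻¹) q := fun q hq => by
      have hm : g⁻¹ * q * g ∈ S0 := by
        have := (mem_normalizer_iff.1 (inv_mem hg) q).1 (hQS hq)
        rwa [inv_inv] at this
      have := (Commute.conj_iff g).2 (hzS _ hm)
      simpa [mul_assoc] using this
    rcases Q_central h hc with e | e
    · exact absurd (conj_eq_one_iff.1 e) L.z_ne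
    · exact L.commz.2 (mul_inv_eq_iff_eq_mul.1 e)
  have hidx : ¬ 2 ∣ S0.index := fun hd => by
    have hdvd : 2 ^ (6 + 1) ∣ Nat.card G := by
      rw [← S0.card_mul_index, hcard, pow_succ]
      exact Nat.mul_dvd_mul (by norm_num) hd
    have := (Sylow.prime_pow_dvd_card_normalizer hdvd (by rw [hcard]; norm_num)).trans (Subgroup.card_dvd_of_le hN)
    rw [L.hcard] at this
    norm_num at this
  exact ⟨hp.toSylow hidx, by rw [IsPGroup.toSylow_coe]; exact hS0H, by rw [IsPGroup.toSylow_coe]; exact hcard⟩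

theorem index_odd (h : L.Isolated m t P) : Odd L.H.index := by
  haveI : Fact (Nat.Prime 2) := ⟨Nat.prime_two⟩
  obtain ⟨S, hS, -⟩ := sylow_two_in h
  exact Nat.not_even_iff_odd.1 fun he => S.not_dvd_index (he.two_dvd.trans (Subgroup.index_dvd_of_le hS))

theorem one_class (h : L.Isolated m t P) {u : G} (h2 : u * u = 1) (hu1 : u ≠ 1) : IsConj L.z u := by
  haveI : Fact (Nat.Prime 2) := ⟨Nat.prime_two⟩
  obtain ⟨S, hS, -⟩ := sylow_two_in h
  have hp : IsPGroup 2 (zpowers u) := IsPGroup.of_card (n := 1) (by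
    rw [Nat.card_zpowers, order_two_of_mul_self h2 hu1, pow_one])
  obtain ⟨T, hT⟩ := hp.exists_le_sylow
  obtain ⟨g, hg⟩ := MulAction.exists_smul_eq G T S
  have hm : g * u * g⁻¹ ∈ L.H := hS (by rw [← hg, Sylow.coe_subgroup_smul]; exact ⟨u, hT (mem_zpowers u), rfl⟩)
  refine (invol_H h hm (by
    calc g * u * g⁻¹ * (g * u * g⁻¹) = g * (u * u) * g⁻¹ := by group
      _ = 1 := by rw [h2, mul_one, mul_inv_cancel]) fun e => hu1 (conj_eq_one_iff.1 e)).trans ?_
  exact (isConj_iff.2 ⟨g, rfl⟩ : IsConj u (g * u * g⁻¹)).symm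

theorem card_Rd (L : Loc G) : Nat.card L.Rd = 9 := by
  rw [← Nat.card_congr (Equiv.ofBijective (fun w : {w : S24 × S24 // C3 w.1 ∧ C3 w.2} =>
    (⟨L.f1 w.1.1 * L.f2 w.1.2, w.1.1, w.1.2, w.2.1, w.2.2, rfl⟩ : L.Rd)) ⟨fun v w e => ?_, fun r => ?_⟩),
    Nat.card_eq_fintype_card]
  · decide +kernel
  · rcases L.pair_inj (congrArg Subtype.val e) with ⟨a, b⟩ | ⟨a, -⟩
    · exact Subtype.ext (Prod.ext a b)
    · exact absurd (a ▸ v.2.1) (S24.c3_facts.2.2.1 _ w.2.1)
  · obtain ⟨a, b, ha, hb, e⟩ := r.2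
    exact ⟨⟨(a, b), ha, hb⟩, Subtype.ext e.symm⟩

theorem index_nine (h : L.Isolated m t P) : L.H.index % 9 = 1 := by
  classical
  have := Fintype.ofFinite (G ⧸ L.H)
  let X := {q : G ⧸ L.H // q ≠ (1 : G)}
  letI : MulAction L.Rd X :=
    { smul := fun j q => ⟨(j : G) • q.1, fun e => q.2 (by
        have e2 := congrArg (fun z => (j : G)⁻¹ • z) e
        simp only [inv_smul_smul] at e2
        rw [e2]
        exact (MulAction.Quotient.smul_mk _ (j : G)⁻¹ 1).trans (QuotientGroup.eq.2 (by simpa using L.Rd_le j.2)))⟩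
      one_smul := fun q => Subtype.ext (one_smul G q.1)
      mul_smul := fun i j q => Subtype.ext (mul_smul (i : G) (j : G) q.1) }
  have hfree : ∀ q : X, MulAction.stabilizer L.Rd q = ⊥ := by
    rintro ⟨q, hq⟩
    obtain ⟨g, rfl⟩ := QuotientGroup.mk_surjective q
    refine eq_bot_iff.2 fun j hj => Subgroup.mem_bot.2 ?_
    by_contra hne
    have hgj : g⁻¹ * (j : G) * g ∈ L.H := by
      have e : (((j : G) * g : G) : G ⧸ L.H) = (g : G ⧸ L.H) := congrArg Subtype.val (MulAction.mem_stabilizer_iff.1 hj)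
      have := QuotientGroup.eq.1 e.symm
      simpa [mul_assoc] using this
    have hgi : g⁻¹ ∈ L.H := three_ti h (L.Rd_le j.2) (L.Rd_cube j.2) (fun e => hne (Subtype.ext e))
      (by rwa [inv_inv])
    exact hq (QuotientGroup.eq.2 (by simpa using hgi))
  have h9 := card_Rd L
  have hcard : Nat.card X = Nat.card (MulAction.orbitRel.Quotient L.Rd X) * 9 := by
    rw [Nat.card_congr (MulAction.selfEquivSigmaOrbitsQuotientStabilizer L.Rd X), Nat.card_sigma, ← h9]
    rw [Finset.sum_congr rfl (g := fun _ => Nat.card L.Rd) fun ω _ => by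
      rw [hfree]; exact Nat.card_congr QuotientGroup.quotientBot.toEquiv]
    simp [Nat.card_eq_fintype_card]
  have hi : L.H.index = Nat.card X + 1 := by
    rw [Subgroup.index, Nat.card_eq_fintype_card, Nat.card_eq_fintype_card, Fintype.card_subtype_compl]
    have := Fintype.card_pos (α := G ⧸ L.H)
    simp; omega
  omega

end Loc

end Cfsg.Lib.GTwoRecog
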