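import Cfsg.Agent.GTwoRecog.Exceptional
import Cfsg.Agent.GTwoRecog.ExcArith
import Cfsg.Agent.InvolCalc.CoprimeFixedCentralizer

/-!
The two values left by the exceptional equation are impossible.
-/

set_option autoImplicit false
set_option maxHeartbeats 800000

namespace Cfsg.Lib.GTwoRecog

open Subgroup
open Cfsg.Lib.InvolCalc (order_two_of_mul_self)

variable {G : Type*} [Group G]

namespace Loc

open HLoc

variable {L : Loc G} [Finite G] {m t P : G}

theorem card_G (L : Loc G) : Nat.card G = 576 * L.H.index := by rw [← L.H.card_mul_index, L.hcard]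

theorem no_two_three (h : L.Isolated m t P) {p : ℕ} (hp : p.Prime) (hp5 : 5 ≤ p) {q : G} (hq : orderOf q = p)
    {y : G} (hy : orderOf y = 2 ∨ orderOf y = 3) : ¬ Commute y q := by
  intro hc
  haveI : Fact (Nat.Prime 3) := ⟨Nat.prime_three⟩
  obtain ⟨g, hgH⟩ : ∃ g, g * q * g⁻¹ ∈ L.H := by
    rcases hy with hy | hy
    · have h2 : y * y = 1 := Cfsg.Lib.InvolCalc.sq_of_order_two hy
      obtain ⟨g, hg⟩ := isConj_iff.1 (one_class h h2 (Cfsg.Lib.InvolCalc.ne_one_of_order_two hy)).symm
      exact ⟨g, L.commz.2 (by rw [← hg]; exact ((Commute.conj_iff g).2 hc.symm).eq)⟩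
    · have hy3 : y * y * y = 1 := by
        have := pow_orderOf_eq_one y
        rwa [hy, pow_succ, sq] at this
      have hy1 : y ≠ 1 := fun e => by rw [e, orderOf_one] at hy; omega
      have h9 := index_nine h
      have hRp : IsPGroup 3 L.Rd := fun r => ⟨1, Subtype.ext (by
        rw [pow_one, pow_succ, sq]; exact L.Rd_cube r.2)⟩
      have hidx : ¬ 3 ∣ L.Rd.index := by
        intro hd
        rw [← relIndex_mul_index L.Rd_le] at hd
        rcases (Nat.prime_three.dvd_mul).1 hd with e | e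
        · have hdd := (L.Rd.subgroupOf L.H).card_mul_index
          have h9' : Nat.card (L.Rd.subgroupOf L.H) = 9 := by
            rw [Nat.card_congr (Subgroup.subgroupOfEquivOfLe L.Rd_le).toEquiv]
            exact card_Rd L
          rw [h9', L.hcard] at hdd
          unfold Subgroup.relIndex at e
          omega
        · omega
      obtain ⟨T, hT⟩ := (IsPGroup.of_card (p := 3) (n := 1) (G := zpowers y) (by
        rw [Nat.card_zpowers, hy, pow_one])).exists_le_sylow
      obtain ⟨g, hg⟩ := MulAction.exists_smul_eq G T (hRp.toSylow hidx)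
      have hm : g * y * g⁻¹ ∈ L.Rd := by
        have : g * y * g⁻¹ ∈ ((hRp.toSylow hidx : Sylow 3 G) : Subgroup G) := by
          rw [← hg, Sylow.coe_subgroup_smul]; exact ⟨y, hT (mem_zpowers y), rfl⟩
        rwa [IsPGroup.toSylow_coe] at this
      refine ⟨g, h.le3 _ (L.Rd_le hm) ?_ (fun e => hy1 (conj_eq_one_iff.1 e))
        (mem_centralizer_singleton_iff.2 ((Commute.conj_iff g).2 hc.symm).eq)⟩
      calc g * y * g⁻¹ * (g * y * g⁻¹) * (g * y * g⁻¹) = g * (y * y * y) * g⁻¹ := by group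
        _ = 1 := by rw [hy3, mul_one, mul_inv_cancel]
  have hd := orderOf_dvd_natCard (⟨_, hgH⟩ : L.H)
  rw [Subgroup.orderOf_mk, show g * q * g⁻¹ = MulAut.conj g q from rfl, MulEquiv.orderOf_eq, hq, L.hcard,
    show (576 : ℕ) = 2 ^ 6 * 3 ^ 2 by norm_num] at hd
  rcases hp.dvd_mul.1 hd with e | e <;> have := Nat.le_of_dvd (by norm_num) (hp.dvd_of_dvd_pow e) <;> omega

/-- The normaliser of a subgroup of prime order at least five. -/
theorem local_data (h : L.Isolated m t P) {p : ℕ} (hp : p.Prime) (hp5 : 5 ≤ p) (hp2 : ¬ p * p ∣ Nat.card G) {q : G}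
    (hq : orderOf q = p) :
    ∃ a k, Nat.card G = Nat.card (centralizer ({q} : Set G)) * a * k ∧ a ∣ p - 1 ∧ k % p = 1 ∧
      p ∣ Nat.card (centralizer ({q} : Set G)) ∧ Nat.card (centralizer ({q} : Set G)) ∣ L.H.index ∧
      ∀ y, orderOf y = 3 → y ∈ normalizer (zpowers q : Set G) → 3 ∣ a := by
  classical
  haveI : Fact p.Prime := ⟨hp⟩
  set C := centralizer ({q} : Set G) with hC
  set N := normalizer (zpowers q : Set G) with hN
  have hCz : centralizer (zpowers q : Set G) = C := by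
    refine le_antisymm (centralizer_le (Set.singleton_subset_iff.2 (mem_zpowers q))) fun g hg => ?_
    refine mem_centralizer_iff.2 fun x hx => ?_
    obtain ⟨i, rfl⟩ := mem_zpowers_iff.1 hx
    exact ((show Commute g q from mem_centralizer_singleton_iff.1 hg).zpow_right i).eq.symm
  have hCN : C ≤ N := hCz ▸ fun g hg => mem_normalizer_iff.2 fun x => by
    constructor
    · intro hx
      rwa [← mem_centralizer_iff.1 hg x hx, mul_inv_cancel_right]
    · intro hx
      have := mem_centralizer_iff.1 hg _ hx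
      rw [inv_mul_cancel_right] at this
      rwa [← mul_left_cancel this] at hx
  have hcard : Nat.card (zpowers q) = p := by rw [Nat.card_zpowers, hq]
  have ha : C.relIndex N ∣ p - 1 := by
    have key := card_dvd_of_injective _ (QuotientGroup.kerLift_injective (zpowers q).normalizerMonoidHom)
    rw [normalizerMonoidHom_ker, ← index, ← relIndex, hCz] at key
    rwa [IsCyclic.card_mulAut, hcard, Nat.totient_prime hp] at key
  have h26 : ∀ r, r.Prime → (r = 2 ∨ r = 3) → ¬ r ∣ Nat.card C := by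
    intro r hr hr2 hd
    haveI : Fact r.Prime := ⟨hr⟩
    obtain ⟨y, hy⟩ := exists_prime_orderOf_dvd_card' r hd
    rw [← Subgroup.orderOf_coe] at hy
    exact no_two_three h hp hp5 hq (hr2.imp (fun e => e ▸ hy) fun e => e ▸ hy) (mem_centralizer_singleton_iff.1 y.2)
  have hcop : Nat.Coprime (Nat.card C) 576 := by
    rw [show (576 : ℕ) = 2 ^ 6 * 3 ^ 2 by norm_num]
    exact Nat.Coprime.mul_right
      (Nat.Coprime.pow_right 6 ((Nat.prime_two.coprime_iff_not_dvd.2 (h26 2 Nat.prime_two (Or.inl rfl))).symm))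
      (Nat.Coprime.pow_right 2 ((Nat.prime_three.coprime_iff_not_dvd.2 (h26 3 Nat.prime_three (Or.inr rfl))).symm))
  have hNc : Nat.card N = Nat.card C * C.relIndex N := by
    rw [← (C.subgroupOf N).card_mul_index, Nat.card_congr (Subgroup.subgroupOfEquivOfLe hCN).toEquiv]
    rfl
  -- the Sylow count
  obtain ⟨S, hS⟩ := (IsPGroup.of_card (p := p) (n := 1) (G := zpowers q) (by rw [hcard, pow_one])).exists_le_sylow
  obtain ⟨j, hj⟩ := S.2.exists_card_eq
  have hj1 : j ≤ 1 := by
    by_contra hj1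
    refine hp2 ((Dvd.dvd.trans ?_ (Subgroup.card_subgroup_dvd_card (S : Subgroup G))))
    rw [hj, ← sq]; exact pow_dvd_pow p (by omega)
  have hSe : zpowers q = (S : Subgroup G) := by
    refine Subgroup.eq_of_le_of_card_ge hS ?_
    rw [hcard, hj]
    exact le_of_le_of_eq (Nat.pow_le_pow_right hp.pos hj1) (pow_one p)
  have hk : N.index % p = 1 := by
    have h1 := card_sylow_modEq_one p G
    rw [S.card_eq_index_normalizer, show normalizer (S : Set G) = N by rw [hN, hSe]; rfl, Nat.ModEq,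
      Nat.mod_eq_of_lt hp.one_lt] at h1
    exact h1
  refine ⟨C.relIndex N, N.index, by rw [← hNc, N.card_mul_index], ha, hk, ?_, ?_, fun y hy hyN => ?_⟩
  · exact hq ▸ (Subgroup.orderOf_mk q (show q ∈ C from mem_centralizer_singleton_iff.2 rfl)) ▸ orderOf_dvd_natCard _
  · exact hcop.dvd_of_dvd_mul_left (card_G L ▸ Subgroup.card_subgroup_dvd_card C)
  · have h3 : 3 ∣ Nat.card N := hy ▸ (Subgroup.orderOf_mk y hyN) ▸ orderOf_dvd_natCard _
    rw [hNc] at h3
    exact (Nat.prime_three.dvd_mul.1 h3).resolve_left (h26 3 Nat.prime_three (Or.inr rfl))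

theorem seven (h : L.Isolated m t P) :
    ∃ q y : G, orderOf q = 7 ∧ orderOf y = 3 ∧ y ∈ normalizer (zpowers q : Set G) := by
  classical
  haveI : Fact (Nat.Prime 7) := ⟨by norm_num⟩
  haveI : Fact (Nat.Prime 3) := ⟨Nat.prime_three⟩
  obtain ⟨T⟩ : Nonempty (Sylow 7 L.M) := inferInstance
  have hTc : Nat.card (T : Subgroup L.M) = 7 := by
    rw [T.card_eq_multiplicity, L.mcard]
    rw [show (1344 : ℕ).factorization 7 = 1 by
      rw [Nat.factorization_def _ (by norm_num : Nat.Prime 7), show (1344 : ℕ) = 7 ^ 1 * 192 by norm_num,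
        padicValNat.mul (by norm_num) (by norm_num), padicValNat.prime_pow,
        padicValNat.eq_zero_of_not_dvd (by norm_num)]]
    norm_num
  have hn1 := card_sylow_modEq_one 7 L.M
  have hn2 := T.card_dvd_index
  have hTi : (T : Subgroup L.M).index = 192 := by
    have := (T : Subgroup L.M).card_mul_index
    rw [hTc, L.mcard] at this
    omega
  rw [hTi] at hn2
  obtain ⟨⟨q, hqM⟩, hqT, hq7⟩ : ∃ q : L.M, q ∈ (T : Subgroup L.M) ∧ orderOf q = 7 := by
    obtain ⟨q, hq⟩ := exists_prime_orderOf_dvd_card' (G := (T : Subgroup L.M)) 7 (by rw [hTc])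
    exact ⟨q, q.2, by rw [Subgroup.orderOf_coe]; exact hq⟩
  have hzq : zpowers (⟨q, hqM⟩ : L.M) = (T : Subgroup L.M) := Subgroup.eq_of_le_of_card_ge
    (zpowers_le.2 hqT) (by rw [hTc, Nat.card_zpowers, hq7])
  rw [Subgroup.orderOf_mk] at hq7
  set k := Nat.card (Sylow 7 L.M) with hk
  have hk1 : k ≠ 1 := by
    intro e
    haveI : (T : Subgroup L.M).Normal := by
      haveI : Subsingleton (Sylow 7 L.M) := (Nat.card_eq_one_iff_unique.1 e).1
      exact T.normal_of_subsingleton
    have hcomm : ∀ o ∈ L.O, Commute q o := fun o ho => by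
      set w := q * o * q⁻¹ * o⁻¹ with hw
      have hwO : w ∈ L.O := L.O.mul_mem (L.onor q hqM o ho) (L.O.inv_mem ho)
      have hwT : (⟨q, hqM⟩ : L.M) * ⟨o, L.OM ho⟩ * ⟨q, hqM⟩⁻¹ * ⟨o, L.OM ho⟩⁻¹ ∈ (T : Subgroup L.M) := by
        rw [mul_assoc (⟨q, hqM⟩ : L.M), mul_assoc (⟨q, hqM⟩ : L.M)]
        exact Subgroup.mul_mem _ hqT ((inferInstance : (T : Subgroup L.M).Normal).conj_mem _
          (Subgroup.inv_mem _ hqT) _)
      have h2 : w * w = 1 := L.osq w hwO
      have h7 : w ^ 7 = 1 := by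
        have := congrArg (fun x : (T : Subgroup L.M) => ((x : L.M) : G))
          (pow_card_eq_one' (x := (⟨_, hwT⟩ : (T : Subgroup L.M))))
        rw [hTc] at this
        exact this
      have hw1 : w = 1 := by
        rw [show w ^ 7 = w * w * (w * w) * (w * w) * w by simp [pow_succ, mul_assoc], h2, one_mul, one_mul, one_mul] at h7
        exact h7
      exact commutatorElement_eq_one_iff_commute.1 (by rw [commutatorElement_def]; exact hw1)
    have hqO := L.oself q hqM hcomm
    have hd : orderOf q ∣ 2 := orderOf_dvd_of_pow_eq_one (by rw [sq]; exact L.osq q hqO)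
    rw [hq7] at hd
    norm_num at hd
  have h3 : 3 ∣ Nat.card (normalizer ((T : Subgroup L.M) : Set L.M)) := by
    have e := (normalizer ((T : Subgroup L.M) : Set L.M)).card_mul_index
    rw [show (normalizer ((T : Subgroup L.M) : Set L.M)).index = k from T.card_eq_index_normalizer.symm, L.mcard] at e
    have : k = 8 ∨ k = 64 := by
      have hmem : k ∈ Nat.divisors 192 := Nat.mem_divisors.2 ⟨hn2, by norm_num⟩
      have hdec : ∀ j ∈ Nat.divisors 192, j % 7 = 1 → j = 1 ∨ j = 8 ∨ j = 64 := by decide +kernel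
      exact (hdec k hmem hn1).resolve_left hk1
    rcases this with e' | e' <;> rw [e'] at e <;> omega
  obtain ⟨⟨⟨y, hyM⟩, hyN⟩, hy⟩ := exists_prime_orderOf_dvd_card' 3 h3
  rw [Subgroup.orderOf_mk, Subgroup.orderOf_mk] at hy
  refine ⟨q, y, hq7, hy, ?_⟩
  have hmap : ∀ x, x ∈ zpowers q ↔ ∃ hx : x ∈ L.M, (⟨x, hx⟩ : L.M) ∈ (T : Subgroup L.M) := fun x => by
    rw [← hzq]
    constructor
    · intro hx
      obtain ⟨i, rfl⟩ := mem_zpowers_iff.1 hx
      exact ⟨L.M.zpow_mem hqM i, i, rfl⟩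
    · rintro ⟨hx, i, hi⟩
      exact ⟨i, congrArg Subtype.val hi⟩
  refine mem_normalizer_iff.2 fun x => ?_
  rw [hmap, hmap]
  constructor
  · rintro ⟨hx, hxT⟩
    exact ⟨L.M.mul_mem (L.M.mul_mem hyM hx) (L.M.inv_mem hyM), (mem_normalizer_iff.1 hyN ⟨x, hx⟩).1 hxT⟩
  · rintro ⟨hx, hxT⟩
    have hx' : x ∈ L.M := by
      have := L.M.mul_mem (L.M.mul_mem (L.M.inv_mem hyM) hx) hyM
      simpa [mul_assoc] using this
    exact ⟨hx', (mem_normalizer_iff.1 hyN ⟨x, hx'⟩).2 hxT⟩

theorem index_seven (L : Loc G) : 7 ∣ L.H.index := by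
  have hd : 1344 ∣ Nat.card G := L.mcard ▸ Subgroup.card_subgroup_dvd_card L.M
  rw [card_G L] at hd
  omega

theorem fixed_sylow {C : Subgroup G} {y : G} (hy : orderOf y = 3) (hC : ∀ x ∈ C, y * x * y⁻¹ ∈ C)
    (h3 : ¬ 3 ∣ Nat.card C) {p : ℕ} (hp : p.Prime) (hp2 : ¬ p * p ∣ Nat.card C) (hpd : p ∣ Nat.card C) :
    ∃ r ∈ C, orderOf r = p ∧ y ∈ normalizer (zpowers r : Set G) := by
  classical
  haveI : Fact p.Prime := ⟨hp⟩
  haveI : Fact (Nat.Prime 3) := ⟨Nat.prime_three⟩
  let X := {S : Subgroup G // S ≤ C ∧ Nat.card S = p}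
  have hone : ∀ T : Sylow p C, Nat.card (T : Subgroup C) = p := fun T => by
    obtain ⟨j, hj⟩ := T.2.exists_card_eq
    have hT := hp.one_lt
    have h1 : j ≠ 0 := fun e => by
      refine T.not_dvd_index ?_
      have := (T : Subgroup C).card_mul_index
      rw [hj, e, pow_zero, one_mul] at this
      rw [this]; exact hpd
    have h2 : j ≤ 1 := by
      by_contra h2
      exact hp2 ((hj ▸ (sq p ▸ pow_dvd_pow p (by omega : 2 ≤ j))).trans (Subgroup.card_subgroup_dvd_card _))
    rw [hj, show j = 1 by omega, pow_one]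
  let e : Sylow p C → X := fun T => ⟨(T : Subgroup C).map C.subtype, Subgroup.map_subtype_le _, by
    rw [Subgroup.card_map_of_injective C.subtype_injective, hone]⟩
  have he : Function.Bijective e := by
    refine ⟨fun T T' h => Sylow.ext (Subgroup.map_injective C.subtype_injective (congrArg Subtype.val h)), fun S => ?_⟩
    have hS : IsPGroup p (S.1.subgroupOf C) := IsPGroup.of_card (n := 1) (by
      rw [Nat.card_congr (Subgroup.subgroupOfEquivOfLe S.2.1).toEquiv, S.2.2, pow_one])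
    obtain ⟨T, hT⟩ := hS.exists_le_sylow
    refine ⟨T, Subtype.ext ?_⟩
    show (T : Subgroup C).map C.subtype = S.1
    refine (Subgroup.eq_of_le_of_card_ge ?_ ?_).symm
    · intro x hx
      exact ⟨⟨x, S.2.1 hx⟩, hT (mem_subgroupOf.2 hx), rfl⟩
    · rw [Subgroup.card_map_of_injective C.subtype_injective, hone, S.2.2]
  have hX : ¬ 3 ∣ Nat.card X := by
    rw [← Nat.card_eq_of_bijective e he]
    intro hd
    obtain ⟨T⟩ : Nonempty (Sylow p C) := inferInstance
    exact h3 ((hd.trans T.card_dvd_index).trans (Subgroup.index_dvd_card _))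
  have hy3 : ∀ x, y * (y * (y * x * y⁻¹) * y⁻¹) * y⁻¹ = x := fun x => by
    have := pow_orderOf_eq_one y
    rw [hy] at this
    calc y * (y * (y * x * y⁻¹) * y⁻¹) * y⁻¹ = y ^ 3 * x * (y ^ 3)⁻¹ := by
          rw [pow_succ, pow_succ, pow_one]; group
      _ = x := by rw [this]; simp
  let c : MulAut G := MulAut.conj y
  let f : X → X := fun S => ⟨S.1.map c.toMonoidHom, by
    rintro _ ⟨x, hx, rfl⟩
    exact hC x (S.2.1 hx), by rw [Subgroup.card_map_of_injective c.injective, S.2.2]⟩
  have hf3 : ∀ S, f (f (f S)) = S := fun S => Subtype.ext (by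
    show ((S.1.map c.toMonoidHom).map c.toMonoidHom).map c.toMonoidHom = S.1
    rw [Subgroup.map_map, Subgroup.map_map]
    ext x
    constructor
    · rintro ⟨z, hz, rfl⟩
      show y * (y * (y * z * y⁻¹) * y⁻¹) * y⁻¹ ∈ S.1
      rwa [hy3]
    · intro hx
      exact ⟨x, hx, hy3 x⟩)
  let σ : Equiv.Perm X := { toFun := f, invFun := fun S => f (f S), left_inv := hf3, right_inv := hf3 }
  obtain ⟨S, hS⟩ := Cfsg.Lib.CoprimeFixedCentralizer.exists_fixed_point (r := 3) hX σ
    (Equiv.ext fun S => show f (f (f S)) = S from hf3 S)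
  obtain ⟨r, hr⟩ := exists_prime_orderOf_dvd_card' (G := S.1) p (by rw [S.2.2])
  have hrS : zpowers (r : G) = S.1 := Subgroup.eq_of_le_of_card_ge (zpowers_le.2 r.2) (by
    rw [Nat.card_zpowers, Subgroup.orderOf_coe, hr, S.2.2])
  refine ⟨r, S.2.1 r.2, by rw [Subgroup.orderOf_coe]; exact hr, ?_⟩
  rw [hrS]
  exact Subgroup.mem_normalizer_iff_map_conj_eq.2 (congrArg Subtype.val hS)

theorem not_isolated (h : L.Isolated m t P) : False := by
  have := Fintype.ofFinite G
  obtain ⟨d, x, hd, hd1, hx, he⟩ := equation h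
  have h9 := index_nine h
  have h7 := index_seven L
  have hodd := Nat.odd_iff.1 (index_odd h)
  have hpos : 0 < L.H.index := Nat.pos_of_ne_zero Subgroup.index_ne_zero_of_finite
  obtain ⟨q, y, hq, hy, hyN⟩ := seven h
  have hval : L.H.index = 8911 ∨ L.H.index = 11935 := by
    rcases exc_arith (n := (L.H.index : ℤ)) (by omega) (by omega) (by omega) (by omega) hd hd1 hx he with e | e
    · left; exact_mod_cast e
    · right; exact_mod_cast e
  have hG := card_G L
  have hp27 : ∀ p, p ∈ [5, 7, 11, 67] → ¬ p * p ∣ Nat.card G := by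
    intro p hp hdv
    rw [hG] at hdv
    rcases hval with e | e <;> rw [e] at hdv <;> fin_cases hp <;> norm_num at hdv
  set C := centralizer ({q} : Set G) with hC
  obtain ⟨a, k, hcak, ha, hk, h7c, hcn, h3a⟩ := local_data h (by norm_num) (by norm_num) (hp27 7 (by simp)) hq
  have ha3 := h3a y hy hyN
  have haN : a = 3 ∨ a = 6 := by
    have := Nat.le_of_dvd (by norm_num) ha
    have := Nat.pos_of_dvd_of_pos ha (by norm_num)
    omega
  have hyC : ∀ v ∈ C, y * v * y⁻¹ ∈ C := fun v hv => by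
    refine mem_centralizer_singleton_iff.2 ?_
    obtain ⟨i, hi⟩ := mem_zpowers_iff.1 ((mem_normalizer_iff.1 (inv_mem hyN) q).1 (mem_zpowers q))
    rw [inv_inv] at hi
    have hc : Commute v (y⁻¹ * q * y) := hi ▸ (show Commute v q from mem_centralizer_singleton_iff.1 hv).zpow_right i
    have := (Commute.conj_iff y).2 hc
    rw [show y * (y⁻¹ * q * y) * y⁻¹ = q by group] at this
    exact this.eq
  have h3C : ¬ 3 ∣ Nat.card C := fun hd => by
    haveI : Fact (Nat.Prime 3) := ⟨Nat.prime_three⟩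
    obtain ⟨v, hv⟩ := exists_prime_orderOf_dvd_card' 3 hd
    rw [← Subgroup.orderOf_coe] at hv
    exact no_two_three h (p := 7) (by norm_num) (by norm_num) hq (Or.inr hv) (mem_centralizer_singleton_iff.1 v.2)
  obtain ⟨c', hc'⟩ := h7c
  rw [← hC] at hcn hcak hc'
  rcases hval with e | e
  · -- the smaller value
    have hdiv : c' ∣ 1273 := by
      rw [hc', e] at hcn
      exact Nat.dvd_of_mul_dvd_mul_left (by norm_num : 0 < 7) (by simpa using hcn)
    have hc4 : c' = 1 ∨ c' = 19 ∨ c' = 67 ∨ c' = 1273 := by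
      have hdec : ∀ j < 1274, 1273 % j = 0 → j = 1 ∨ j = 19 ∨ j = 67 ∨ j = 1273 := by decide +kernel
      exact hdec c' (Nat.lt_succ_of_le (Nat.le_of_dvd (by norm_num) hdiv)) (Nat.mod_eq_zero_of_dvd hdiv)
    rw [hG, e, hc'] at hcak
    have hsel : c' = 67 ∧ a = 3 := by
      rcases hc4 with rfl | rfl | rfl | rfl <;> rcases haN with rfl | rfl <;> norm_num at hcak ⊢ <;> omega
    obtain ⟨rfl, rfl⟩ := hsel
    obtain ⟨r, hrC, hr, hyr⟩ := fixed_sylow (C := C) hy hyC h3C (p := 67) (by norm_num)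
      (by rw [hc']; norm_num) (by rw [hc']; norm_num)
    obtain ⟨a2, k2, hcak2, ha2, hk2, h67, hcn2, h3a2⟩ := local_data h (by norm_num) (by norm_num) (hp27 67 (by simp)) hr
    have ha23 := h3a2 y hy hyr
    set C2 := centralizer ({r} : Set G) with hC2
    have h7c2 : 7 ∣ Nat.card C2 := hq ▸ (Subgroup.orderOf_mk q (show q ∈ C2 from
      mem_centralizer_singleton_iff.2 (mem_centralizer_singleton_iff.1 hrC).symm)) ▸ orderOf_dvd_natCard _
    obtain ⟨b, hb⟩ : 469 ∣ Nat.card C2 :=
      (show (469 : ℕ) = 7 * 67 by norm_num) ▸ Nat.Coprime.mul_dvd_of_dvd_of_dvd (by norm_num) h7c2 h67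
    rw [hG, e, hb] at hcak2
    have hb2 : b = 1 ∨ b = 19 := by
      rw [hb, e] at hcn2
      exact (Nat.dvd_prime (by norm_num)).1 (Nat.dvd_of_mul_dvd_mul_left (by norm_num : 0 < 469) (by simpa using hcn2))
    have ha2' : a2 = 3 ∨ a2 = 6 := by
      have hG2 : a2 ∣ 5132736 := ⟨469 * b * k2, by linarith⟩
      have h6 : a2 ∣ 6 := by
        have := Nat.dvd_gcd ha2 hG2
        norm_num at this
        exact this
      have := Nat.le_of_dvd (by norm_num) h6
      have := Nat.pos_of_dvd_of_pos h6 (by norm_num)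
      omega
    rcases hb2 with rfl | rfl <;> rcases ha2' with rfl | rfl <;> norm_num at hcak2 <;> omega
  · -- the larger value
    have hdiv : c' ∣ 1705 := by
      rw [hc', e] at hcn
      exact Nat.dvd_of_mul_dvd_mul_left (by norm_num : 0 < 7) (by simpa using hcn)
    have no : ∀ p, p = 5 ∨ p = 11 → ¬ p ∣ c' := by
      intro p hp hpc
      have hpp : p.Prime := by rcases hp with rfl | rfl <;> norm_num
      have hp2 : ¬ p * p ∣ Nat.card G := hp27 p (by rcases hp with rfl | rfl <;> simp)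
      obtain ⟨r, hrC, hr, hyr⟩ := fixed_sylow (C := C) hy hyC h3C hpp
        (fun hd => hp2 (hd.trans (Subgroup.card_subgroup_dvd_card C))) (hc' ▸ Dvd.dvd.mul_left hpc 7)
      obtain ⟨a2, -, -, ha2, -, -, -, h3a2⟩ := local_data h hpp (by rcases hp with rfl | rfl <;> norm_num) hp2 hr
      have hh := (h3a2 y hy hyr).trans ha2
      rcases hp with rfl | rfl <;> norm_num at hh
    have hc2 : c' = 1 ∨ c' = 31 := by
      have hdec : ∀ j < 1706, 1705 % j = 0 → ¬ 5 ∣ j → ¬ 11 ∣ j → j = 1 ∨ j = 31 := by decide +kernel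
      exact hdec c' (Nat.lt_succ_of_le (Nat.le_of_dvd (by norm_num) hdiv)) (Nat.mod_eq_zero_of_dvd hdiv)
        (no 5 (Or.inl rfl)) (no 11 (Or.inr rfl))
    rw [hG, e, hc'] at hcak
    rcases hc2 with rfl | rfl <;> rcases haN with rfl | rfl <;> norm_num at hcak <;> omega

/-- Every group with the coordinates is `G₂(3)`. -/
theorem recognised (L : Loc G) : Nonempty (Cfsg.Lib.GTwoThree.GG ≃* G) := by
  by_contra hno
  rw [not_nonempty_iff] at hno
  obtain ⟨L', m, t, hs⟩ := exists_std L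
  obtain ⟨P, hP⟩ := exists_P L' hs
  exact not_isolated ⟨hP, fun x hx h3 hx1 => three_le hP hno hx h3 hx1⟩

end Loc

end Cfsg.Lib.GTwoRecog
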